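import Mathlib.Algebra.Lie.OfAssociative
import Mathlib.LinearAlgebra.Dual.Lemmas
import Mathlib.LinearAlgebra.FiniteDimensional.Lemmas

/-!
Graded Lie algebras generated in degree zero, together with a family of equivariant
quotient maps, as used for the breadth bound on commutator subgroups.
-/

set_option autoImplicit false

namespace CfsgLib.PGroup.Breadth

variable (K : Type*) [Field K] (L : Type*) [LieRing L] [LieAlgebra K L]
  (T : Type*) [AddCommGroup T] [Module K T] (ι : Type*)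

/-- A graded Lie algebra generated in degree zero, and a space `T` spanned by the images
of equivariant maps `π a`, one of which (`π a0`) is split by `pr`. -/
structure BData where
  Lc : ℕ → Submodule K L
  act : L →ₗ[K] T →ₗ[K] T
  π : ι → L →ₗ[K] T
  a0 : ι
  pr : T →ₗ[K] L
  pT : ℕ → T →ₗ[K] T
  act_π : ∀ a z x, act z (π a x) = π a ⁅z, x⁆
  pr_π0 : ∀ x, pr (π a0 x) = x
  pr_π : ∀ a, a ≠ a0 → ∀ x, pr (π a x) = 0
  pr_act : ∀ z t, pr (act z t) = ⁅z, pr t⁆
  span_π : (⨆ a, LinearMap.range (π a)) = ⊤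
  lie_mem : ∀ n, ∀ v ∈ Lc 0, ∀ x ∈ Lc n, ⁅v, x⁆ ∈ Lc (n + 1)
  gen : ∀ n, Lc (n + 1) ≤ ⨆ v ∈ Lc 0, Submodule.map (LieAlgebra.ad K L v) (Lc n)
  iSup_Lc : (⨆ n, Lc n) = ⊤
  nil : ∃ N, ∀ n, N ≤ n → Lc n = ⊥
  pT_act : ∀ n, ∀ v ∈ Lc 0, ∀ t, pT (n + 1) (act v t) = act v (pT n t)
  pT_π_self : ∀ n a, ∀ x ∈ Lc n, pT n (π a x) = π a x
  pT_π_ne : ∀ n m a, n ≠ m → ∀ x ∈ Lc m, pT n (π a x) = 0
  pr_pT_mem : ∀ n t, pr (pT n t) ∈ Lc n

variable {K L T ι}

/-- Iterated bracket with a word. -/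
def wd : List L → L →ₗ[K] L
  | [] => LinearMap.id
  | h :: M => (LieAlgebra.ad K L h : L →ₗ[K] L).comp (wd M)

@[simp] theorem wd_nil (x : L) : wd (K := K) [] x = x := rfl

@[simp] theorem wd_cons (h : L) (M : List L) (x : L) :
    wd (K := K) (h :: M) x = ⁅h, wd (K := K) M x⁆ := rfl

theorem wd_append (M N : List L) (x : L) :
    wd (K := K) (M ++ N) x = wd (K := K) M (wd (K := K) N x) := by
  induction M with
  | nil => rfl
  | cons h M ih => simp [ih]

variable (K) in
/-- The span of the brackets with an element of `P`. -/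
def brk (P : Set L) (X : Submodule K L) : Submodule K L :=
  ⨆ h ∈ P, Submodule.map (LieAlgebra.ad K L h) X

theorem lie_mem_brk {P : Set L} {X : Submodule K L} {h x : L} (hh : h ∈ P) (hx : x ∈ X) :
    ⁅h, x⁆ ∈ brk K P X :=
  Submodule.mem_iSup_of_mem h (Submodule.mem_iSup_of_mem hh ⟨x, hx, rfl⟩)

theorem brk_le_iff {P : Set L} {X Y : Submodule K L} :
    brk K P X ≤ Y ↔ ∀ h ∈ P, ∀ x ∈ X, ⁅h, x⁆ ∈ Y := by
  refine ⟨fun H h hh x hx => H (lie_mem_brk hh hx), fun H => ?_⟩
  refine iSup₂_le fun h hh => ?_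
  rintro _ ⟨x, hx, rfl⟩
  exact H h hh x hx

theorem brk_mono {P Q : Set L} {X Y : Submodule K L} (hP : P ⊆ Q) (hX : X ≤ Y) :
    brk K P X ≤ brk K Q Y :=
  brk_le_iff.mpr fun _ hh _ hx => lie_mem_brk (hP hh) (hX hx)

variable (K) in
/-- The span of the words in `P` applied to `X`. -/
def U (P : Set L) (X : Submodule K L) : Submodule K L :=
  Submodule.span K {y | ∃ M : List L, (∀ h ∈ M, h ∈ P) ∧ ∃ x ∈ X, wd (K := K) M x = y}

variable (K) in
/-- The span of the words in `P` applied to an element of `P`. -/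
def W (P : Set L) : Submodule K L :=
  U K P (Submodule.span K P)

theorem wd_mem_U {P : Set L} {X : Submodule K L} {M : List L} (hM : ∀ h ∈ M, h ∈ P) {x : L}
    (hx : x ∈ X) : wd (K := K) M x ∈ U K P X :=
  Submodule.subset_span ⟨M, hM, x, hx, rfl⟩

theorem le_U (P : Set L) (X : Submodule K L) : X ≤ U K P X :=
  fun x hx => by simpa using wd_mem_U (P := P) (M := []) (by simp) hx

theorem U_le_iff {P : Set L} {X Y : Submodule K L} :
    U K P X ≤ Y ↔ ∀ M : List L, (∀ h ∈ M, h ∈ P) → ∀ x ∈ X, wd (K := K) M x ∈ Y := by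
  refine ⟨fun H M hM x hx => H (wd_mem_U hM hx), fun H => Submodule.span_le.mpr ?_⟩
  rintro _ ⟨M, hM, x, hx, rfl⟩
  exact H M hM x hx

theorem U_mono {P Q : Set L} {X Y : Submodule K L} (hP : P ⊆ Q) (hX : X ≤ Y) :
    U K P X ≤ U K Q Y :=
  U_le_iff.mpr fun _ hM _ hx => wd_mem_U (fun h hh => hP (hM h hh)) (hX hx)

theorem W_mono {P Q : Set L} (hP : P ⊆ Q) : W K P ≤ W K Q :=
  U_mono hP (Submodule.span_mono hP)

theorem wd_mem_W {P : Set L} {M : List L} (hM : ∀ h ∈ M, h ∈ P) {g : L} (hg : g ∈ P) :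
    wd (K := K) M g ∈ W K P :=
  wd_mem_U hM (Submodule.subset_span hg)

theorem lie_mem_U {P : Set L} {X : Submodule K L} {h x : L} (hh : h ∈ P) (hx : x ∈ U K P X) :
    ⁅h, x⁆ ∈ U K P X := by
  have H : U K P X ≤ Submodule.comap (LieAlgebra.ad K L h) (U K P X) :=
    U_le_iff.mpr fun M hM x hx => by
      show ⁅h, wd (K := K) M x⁆ ∈ U K P X
      rw [← wd_cons]
      exact wd_mem_U (by simpa [hh] using hM) hx
  exact H hx

theorem wd_mem_W_of_mem {P : Set L} {M : List L} (hM : ∀ h ∈ M, h ∈ P) {x : L}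
    (hx : x ∈ W K P) : wd (K := K) M x ∈ W K P := by
  induction M with
  | nil => simpa using hx
  | cons h M ih =>
    simp only [wd_cons]
    exact lie_mem_U (hM h (by simp)) (ih fun a ha => hM a (by simp [ha]))

namespace BData

variable (D : BData K L T ι)

/-- The span of the ranges of the action of the elements of `P`. -/
def S (P : Set L) : Submodule K T :=
  ⨆ h ∈ P, LinearMap.range (D.act h)

/-- The maps `x ↦ π a (M x)`, for words `M` in `P`. -/
def Em (P : Set L) : Submodule K (L →ₗ[K] T) :=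
  Submodule.span K {f | ∃ a, ∃ M : List L, (∀ h ∈ M, h ∈ P) ∧ (D.π a).comp (wd (K := K) M) = f}

theorem act_mem_S {P : Set L} {h : L} (hh : h ∈ P) (t : T) : D.act h t ∈ D.S P :=
  Submodule.mem_iSup_of_mem h (Submodule.mem_iSup_of_mem hh ⟨t, rfl⟩)

theorem S_le_iff {P : Set L} {Y : Submodule K T} :
    D.S P ≤ Y ↔ ∀ h ∈ P, ∀ t, D.act h t ∈ Y := by
  refine ⟨fun H h hh t => H (D.act_mem_S hh t), fun H => iSup₂_le fun h hh => ?_⟩
  rintro _ ⟨t, rfl⟩
  exact H h hh t

theorem S_mono {P Q : Set L} (hP : P ⊆ Q) : D.S P ≤ D.S Q :=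
  D.S_le_iff.mpr fun _ hh t => D.act_mem_S (hP hh) t

theorem S_insert (P : Set L) (g : L) :
    D.S (insert g P) = D.S P ⊔ LinearMap.range (D.act g) := by
  rw [S, iSup_insert, sup_comm]
  rfl

theorem π_lie_swap (a : ι) (x y : L) : D.π a ⁅x, y⁆ = -D.π a ⁅y, x⁆ := by
  rw [← lie_skew, map_neg]

theorem π_lie_mem_S {P : Set L} {g : L} (hg : g ∈ P) (a : ι) (x : L) : D.π a ⁅g, x⁆ ∈ D.S P := by
  rw [← D.act_π]
  exact D.act_mem_S hg _

/-- Brackets with `W P` land in `S P`. -/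
theorem π_lie_W {P : Set L} {x : L} (hx : x ∈ W K P) (a : ι) (z : L) :
    D.π a ⁅z, x⁆ ∈ D.S P := by
  have base : ∀ M : List L, (∀ h ∈ M, h ∈ P) → ∀ y ∈ Submodule.span K P, ∀ z : L,
      D.π a ⁅z, wd (K := K) M y⁆ ∈ D.S P := by
    intro M
    induction M with
    | nil =>
      intro _ y hy z
      have H : Submodule.span K P ≤
          Submodule.comap ((D.π a).comp (LieAlgebra.ad K L z : L →ₗ[K] L)) (D.S P) :=
        Submodule.span_le.mpr fun g hg => by
          show D.π a ⁅z, g⁆ ∈ D.S P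
          rw [D.π_lie_swap]
          exact neg_mem (D.π_lie_mem_S hg a z)
      exact H hy
    | cons h M ih =>
      intro hM y hy z
      rw [wd_cons, leibniz_lie, map_add]
      exact add_mem (ih (fun k hk => hM k (by simp [hk])) y hy _)
        (D.π_lie_mem_S (hM h (by simp)) a _)
  have H : W K P ≤ Submodule.comap ((D.π a).comp (LieAlgebra.ad K L z : L →ₗ[K] L)) (D.S P) :=
    U_le_iff.mpr fun M hM y hy => base M hM y hy z
  exact H hx

/-- Moving a word from one side of a bracket to the other. -/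
theorem π_lie_wd {P : Set L} (a : ι) {M : List L} (hM : ∀ h ∈ M, h ∈ P) (x y : L) :
    D.π a ⁅x, wd (K := K) M y⁆ - ((-1 : K) ^ M.length) • D.π a ⁅wd (K := K) M.reverse x, y⁆
      ∈ D.S P := by
  induction M generalizing x with
  | nil => simp
  | cons h M ih =>
    have h1 := ih (fun k hk => hM k (by simp [hk])) ⁅x, h⁆
    have h2 := D.π_lie_mem_S (hM h (by simp)) a ⁅x, wd (K := K) M y⁆
    rw [wd_cons, leibniz_lie, map_add, List.reverse_cons, wd_append, List.length_cons, pow_succ,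
      wd_cons, wd_nil, mul_neg, mul_one, neg_smul, ← lie_skew h x, map_neg, neg_lie, map_neg,
      smul_neg, neg_neg, add_sub_right_comm]
    exact add_mem h1 h2

theorem comp_wd_mem_Em {P : Set L} {M : List L} (hM : ∀ h ∈ M, h ∈ P) (a : ι) :
    (D.π a).comp (wd (K := K) M) ∈ D.Em P :=
  Submodule.subset_span ⟨a, M, hM, rfl⟩

/-- Induction on `Em`. -/
theorem Em_induction {P : Set L} {C : (L →ₗ[K] T) → Prop} (h0 : C 0)
    (hadd : ∀ f f', C f → C f' → C (f + f')) (hsmul : ∀ (c : K) f, C f → C (c • f))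
    (hgen : ∀ a, ∀ M : List L, (∀ h ∈ M, h ∈ P) → C ((D.π a).comp (wd (K := K) M)))
    {f : L →ₗ[K] T} (hf : f ∈ D.Em P) : C f := by
  induction hf using Submodule.span_induction with
  | mem x hx => obtain ⟨a, M, hM, rfl⟩ := hx; exact hgen a M hM
  | zero => exact h0
  | add x y _ _ hx hy => exact hadd x y hx hy
  | smul c x _ hx => exact hsmul c x hx

theorem Em_mono {P Q : Set L} (h : P ⊆ Q) : D.Em P ≤ D.Em Q := fun _ hf =>
  D.Em_induction (C := fun f => f ∈ D.Em Q) (zero_mem _) (fun _ _ => add_mem)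
    (fun c _ hf => Submodule.smul_mem _ c hf)
    (fun a M hM => D.comp_wd_mem_Em (fun k hk => h (hM k hk)) a) hf

theorem act_Em_mem_S {P : Set L} {f : L →ₗ[K] T} (hf : f ∈ D.Em P) {g : L} (hg : g ∈ P)
    (z : L) : D.act z (f g) ∈ D.S P := by
  refine D.Em_induction (C := fun f => D.act z (f g) ∈ D.S P) (by simp)
    (fun f f' h h' => by simpa using add_mem h h')
    (fun c f h => by simpa using Submodule.smul_mem _ c h) (fun a M hM => ?_) hf
  simp only [LinearMap.comp_apply, D.act_π]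
  exact D.π_lie_W (wd_mem_W hM hg) a z

/-- The partner of a map in `Em`. -/
theorem Em_symm {P : Set L} {f : L →ₗ[K] T} (hf : f ∈ D.Em P) :
    ∃ f' ∈ D.Em P, ∀ x y, D.act x (f y) + D.act y (f' x) ∈ D.S P := by
  refine D.Em_induction
    (C := fun f => ∃ f' ∈ D.Em P, ∀ x y, D.act x (f y) + D.act y (f' x) ∈ D.S P)
    ⟨0, zero_mem _, by simp⟩ ?_ ?_ ?_ hf
  · rintro f f₂ ⟨f', h', H'⟩ ⟨f₂', h₂', H₂'⟩
    refine ⟨f' + f₂', add_mem h' h₂', fun x y => ?_⟩
    simp only [LinearMap.add_apply, map_add]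
    rw [add_add_add_comm]
    exact add_mem (H' x y) (H₂' x y)
  · rintro c f ⟨f', h', H'⟩
    refine ⟨c • f', Submodule.smul_mem _ c h', fun x y => ?_⟩
    simp only [LinearMap.smul_apply, map_smul, ← smul_add]
    exact Submodule.smul_mem _ c (H' x y)
  · intro a M hM
    have hM' : ∀ h ∈ M.reverse, h ∈ P := by simpa using hM
    refine ⟨((-1 : K) ^ M.length) • (D.π a).comp (wd (K := K) M.reverse),
      Submodule.smul_mem _ _ (D.comp_wd_mem_Em hM' a), fun x y => ?_⟩
    simp only [LinearMap.smul_apply, LinearMap.comp_apply, map_smul, D.act_π]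
    rw [D.π_lie_swap a y, smul_neg, ← sub_eq_add_neg]
    exact D.π_lie_wd a hM x y

theorem pr_Em {P : Set L} {f : L →ₗ[K] T} (hf : f ∈ D.Em P) {X : Submodule K L} {x : L}
    (hx : x ∈ X) : D.pr (f x) ∈ U K P X := by
  refine D.Em_induction (C := fun f => D.pr (f x) ∈ U K P X) (by simp)
    (fun f f' h h' => by simpa using add_mem h h')
    (fun c f h => by simpa using Submodule.smul_mem _ c h) (fun a M hM => ?_) hf
  by_cases ha : a = D.a0
  · subst ha
    rw [LinearMap.comp_apply, D.pr_π0]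
    exact wd_mem_U hM hx
  · simp [D.pr_π a ha]

theorem pr_mem_brk {P : Set L} {t : T} (ht : t ∈ D.S P) : D.pr t ∈ brk K P ⊤ := by
  have H : D.S P ≤ Submodule.comap D.pr (brk K P ⊤) :=
    D.S_le_iff.mpr fun h hh t => by
      show D.pr (D.act h t) ∈ brk K P (⊤ : Submodule K L)
      rw [D.pr_act]
      exact lie_mem_brk hh trivial
  exact H ht

theorem pr_pT_mem_brk {P : Set L} (hP : P ⊆ ↑(D.Lc 0)) (m : ℕ) {t : T} (ht : t ∈ D.S P) :
    D.pr (D.pT (m + 1) t) ∈ brk K P (D.Lc m) := by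
  have H : D.S P ≤ Submodule.comap (D.pr.comp (D.pT (m + 1))) (brk K P (D.Lc m)) :=
    D.S_le_iff.mpr fun h hh t => by
      show D.pr (D.pT (m + 1) (D.act h t)) ∈ brk K P (D.Lc m)
      rw [D.pT_act m h (hP hh), D.pr_act]
      exact lie_mem_brk hh (D.pr_pT_mem m t)
  exact H ht

theorem brk_of_π_mem {P : Set L} (hP : P ⊆ ↑(D.Lc 0)) {m : ℕ} {x : L} (hx : x ∈ D.Lc (m + 1))
    (h : D.π D.a0 x ∈ D.S P) : x ∈ brk K P (D.Lc m) := by
  have := D.pr_pT_mem_brk hP m h
  rwa [D.pT_π_self _ _ _ hx, D.pr_π0] at this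

theorem wd_mem_Lc {M : List L} (hM : ∀ h ∈ M, h ∈ D.Lc 0) {n : ℕ} {x : L} (hx : x ∈ D.Lc n) :
    wd (K := K) M x ∈ D.Lc (n + M.length) := by
  induction M with
  | nil => simpa using hx
  | cons h M ih =>
    rw [wd_cons, List.length_cons, ← add_assoc]
    exact D.lie_mem _ _ (hM h (by simp)) _ (ih fun k hk => hM k (by simp [hk]))

theorem π_mem_of_eq_top {X : Submodule K L} (hX : X = ⊤) {Y : Submodule K T} (f : T →ₗ[K] T)
    (h : ∀ a, ∀ x ∈ X, f (D.π a x) ∈ Y) (t : T) : f t ∈ Y := by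
  have H : (⊤ : Submodule K T) ≤ Submodule.comap f Y := by
    rw [← D.span_π]
    refine iSup_le fun a => ?_
    rintro _ ⟨x, rfl⟩
    exact h a x (hX ▸ trivial)
  exact H trivial

/-- The criterion for a subspace to be everything. -/
theorem eq_top_of_closed {P Q : Set L} (hP : P ⊆ ↑(D.Lc 0)) (hQ : Q ⊆ ↑(D.Lc 0)) {X : Submodule K L}
    (hV : D.Lc 0 ≤ X) (h1 : ∀ h ∈ P, ∀ x ∈ X, ⁅h, x⁆ ∈ X)
    (h2 : ∀ h ∈ Q, ∀ x ∈ X, ⁅h, x⁆ ∈ X ⊔ brk K P ⊤)
    (h3 : ∀ v ∈ D.Lc 0, ∀ x ∈ X, ⁅v, x⁆ ∈ X ⊔ brk K P ⊤ ⊔ brk K Q ⊤) : X = ⊤ := by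
  set Fl : ℕ → Submodule K L := fun m => ⨆ n, ⨆ _ : m ≤ n, D.Lc n with hFl
  have hle : ∀ m n, m ≤ n → D.Lc n ≤ Fl m := fun m n h =>
    le_iSup₂ (f := fun n (_ : m ≤ n) => D.Lc n) n h
  have hlie : ∀ m, ∀ v ∈ D.Lc 0, ∀ y ∈ Fl m, ⁅v, y⁆ ∈ Fl (m + 1) := by
    intro m v hv
    have H : Fl m ≤ Submodule.comap (LieAlgebra.ad K L v) (Fl (m + 1)) :=
      iSup₂_le fun n hn y hy => hle (m + 1) (n + 1) (by omega) (D.lie_mem n v hv y hy)
    exact fun y hy => H hy
  have key : ∀ m, (⊤ : Submodule K L) ≤ X ⊔ Fl m := by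
    intro m
    induction m with
    | zero =>
      rw [← D.iSup_Lc]
      exact iSup_le fun n => (hle 0 n (Nat.zero_le n)).trans le_sup_right
    | succ m ih =>
      have e1 : brk K P ⊤ ≤ X ⊔ Fl (m + 1) := brk_le_iff.mpr fun h hh y _ => by
        obtain ⟨x, hx, w, hw, rfl⟩ := Submodule.mem_sup.mp (ih (show y ∈ (⊤ : Submodule K L) from trivial))
        rw [lie_add]
        exact Submodule.add_mem_sup (h1 h hh x hx) (hlie m h (hP hh) w hw)
      have e2 : brk K Q ⊤ ≤ X ⊔ Fl (m + 1) := brk_le_iff.mpr fun h hh y _ => by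
        obtain ⟨x, hx, w, hw, rfl⟩ := Submodule.mem_sup.mp (ih (show y ∈ (⊤ : Submodule K L) from trivial))
        rw [lie_add]
        exact add_mem ((sup_le le_sup_left e1 : X ⊔ brk K P ⊤ ≤ _) (h2 h hh x hx))
          (le_sup_right (a := X) (hlie m h (hQ hh) w hw))
      have e3 : ∀ v ∈ D.Lc 0, ∀ y, ⁅v, y⁆ ∈ X ⊔ Fl (m + 1) := by
        intro v hv y
        obtain ⟨x, hx, w, hw, rfl⟩ := Submodule.mem_sup.mp (ih (show y ∈ (⊤ : Submodule K L) from trivial))
        rw [lie_add]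
        exact add_mem ((sup_le (sup_le le_sup_left e1) e2 :
          X ⊔ brk K P ⊤ ⊔ brk K Q ⊤ ≤ _) (h3 v hv x hx))
          (le_sup_right (a := X) (hlie m v hv w hw))
      rw [← D.iSup_Lc]
      refine iSup_le fun n => ?_
      cases n with
      | zero => exact hV.trans le_sup_left
      | succ n =>
        refine (D.gen n).trans (iSup₂_le fun v hv => ?_)
        rintro _ ⟨y, _, rfl⟩
        exact e3 v hv y
  obtain ⟨N, hN⟩ := D.nil
  have : Fl N = ⊥ := eq_bot_iff.mpr (iSup₂_le fun n hn => (hN n hn).le)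
  simpa [this] using key N

/-! ### Ranks -/

/-- The rank of `act z` modulo `S`. -/
noncomputable def rk (S : Submodule K T) (z : L) : ℕ :=
  Module.finrank K (T ⧸ Submodule.comap (D.act z) S)

variable [FiniteDimensional K T]

theorem rk_mono {S S' : Submodule K T} (h : S ≤ S') (z : L) : D.rk S' z ≤ D.rk S z := by
  have h1 := (Submodule.comap (D.act z) S).finrank_quotient_add_finrank
  have h2 := (Submodule.comap (D.act z) S').finrank_quotient_add_finrank
  have h3 := Submodule.finrank_mono (Submodule.comap_mono (f := D.act z) h)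
  unfold rk
  omega

theorem rk_lt {S S' : Submodule K T} (h : S ≤ S') {z : L} {t : T} (h1 : D.act z t ∈ S')
    (h2 : D.act z t ∉ S) : D.rk S' z + 1 ≤ D.rk S z := by
  have hlt : Submodule.comap (D.act z) S < Submodule.comap (D.act z) S' :=
    lt_of_le_of_ne (Submodule.comap_mono h) fun e => h2 (by
      have : t ∈ Submodule.comap (D.act z) S' := h1
      rw [← e] at this
      exact this)
  have h1' := (Submodule.comap (D.act z) S).finrank_quotient_add_finrank
  have h2' := (Submodule.comap (D.act z) S').finrank_quotient_add_finrank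
  have h3 := Submodule.finrank_lt_finrank_of_lt hlt
  unfold rk
  omega

theorem comap_eq_of_rk {S S' : Submodule K T} (h : S ≤ S') {z : L}
    (hr : D.rk S z ≤ D.rk S' z) {t : T} (ht : D.act z t ∈ S') : D.act z t ∈ S := by
  by_contra h2
  have := D.rk_lt h ht h2
  omega

theorem finrank_sup_range (S : Submodule K T) (z : L) :
    Module.finrank K ↥(S ⊔ LinearMap.range (D.act z)) =
      Module.finrank K ↥S + D.rk S z := by
  have e : Submodule.comap (D.act z) S = LinearMap.ker (S.mkQ.comp (D.act z)) := by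
    rw [LinearMap.ker_comp, Submodule.ker_mkQ]
  have h1 := (S.mkQ.comp (D.act z)).finrank_range_add_finrank_ker
  have h2 := (Submodule.comap (D.act z) S).finrank_quotient_add_finrank
  rw [← e] at h1
  set R := S ⊔ LinearMap.range (D.act z)
  have h3 := (S.mkQ.comp R.subtype).finrank_range_add_finrank_ker
  have r1 : LinearMap.range (S.mkQ.comp R.subtype) = LinearMap.range (S.mkQ.comp (D.act z)) := by
    rw [LinearMap.range_comp, LinearMap.range_comp, Submodule.range_subtype, Submodule.map_sup,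
      Submodule.mkQ_map_self, bot_sup_eq]
  have r2 : LinearMap.ker (S.mkQ.comp R.subtype) = Submodule.comap R.subtype S := by
    rw [LinearMap.ker_comp, Submodule.ker_mkQ]
  rw [r1, r2, (Submodule.comapSubtypeEquivOfLe (le_sup_left : S ≤ R)).finrank_eq] at h3
  unfold rk
  omega

theorem rk_congr {S : Submodule K T} {z z' : L}
    (h : ∀ t, D.act z t - D.act z' t ∈ S) : D.rk S z = D.rk S z' := by
  have : Submodule.comap (D.act z) S = Submodule.comap (D.act z') S := by
    ext t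
    simp only [Submodule.mem_comap]
    exact ⟨fun hz => by simpa using sub_mem hz (h t), fun hz => by simpa using add_mem hz (h t)⟩
  unfold rk
  rw [this]

theorem finrank_S_le_of_pair {P : Set L} {g g' : L} :
    Module.finrank K ↥(D.S (insert g' (insert g P))) ≤
      Module.finrank K ↥(D.S P) + D.rk (D.S P) g + D.rk (D.S P) g' := by
  rw [S_insert, D.finrank_sup_range, S_insert, D.finrank_sup_range]
  have : D.rk (D.S P ⊔ LinearMap.range (D.act g)) g' ≤ D.rk (D.S P) g' := D.rk_mono le_sup_left g'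
  omega

end BData

end CfsgLib.PGroup.Breadth
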