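import Cfsg.Agent.Lib.PGroup.Breadth.Terminal
import Mathlib.Algebra.BigOperators.Intervals

/-!
Chains of pivots and their rank bookkeeping.
-/

set_option autoImplicit false

namespace CfsgLib.PGroup.Breadth.BData

open Submodule Finset

variable {K L T ι : Type*} [Field K] [LieRing L] [LieAlgebra K L] [AddCommGroup T] [Module K T]
  (D : BData K L T ι)

/-- The first `i` pivots. -/
def piv (g : ℕ → L) (i : ℕ) : Set L :=
  g '' Set.Iio i

omit [LieRing L] in
theorem piv_succ (g : ℕ → L) (i : ℕ) : piv g (i + 1) = insert (g i) (piv g i) := by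
  ext x
  simp only [piv, Set.mem_image, Set.mem_Iio, Set.mem_insert_iff]
  constructor
  · rintro ⟨j, hj, rfl⟩
    rcases Nat.lt_succ_iff_lt_or_eq.mp hj with h | rfl
    · exact Or.inr ⟨j, h, rfl⟩
    · exact Or.inl rfl
  · rintro (rfl | ⟨j, hj, rfl⟩)
    · exact ⟨i, Nat.lt_succ_self i, rfl⟩
    · exact ⟨j, Nat.lt_succ_of_lt hj, rfl⟩

omit [LieRing L] in
theorem piv_mono (g : ℕ → L) {i j : ℕ} (h : i ≤ j) : piv g i ⊆ piv g j :=
  Set.image_mono (Set.Iio_subset_Iio h)

omit [LieRing L] in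
theorem piv_congr {g g' : ℕ → L} {i : ℕ} (h : ∀ j < i, g j = g' j) : piv g i = piv g' i :=
  Set.image_congr h

/-- A chain of `k` pivots with their witnesses and hyperplanes. -/
structure IsChain (k : ℕ) (g : ℕ → L) (f : ℕ → L →ₗ[K] T) (A : ℕ → Submodule K L) : Prop where
  hyp : ∀ i, i ≤ k → D.Hyp (A i)
  mem : ∀ i, i < k → g i ∈ D.Lc 0
  out : ∀ i, i < k → g i ∉ A i
  into : ∀ i, i < k → g i ∈ A (i + 1)
  hf : ∀ i, i < k → f i ∈ D.Em (piv g i)
  sep : ∀ i, i < k → ∀ z ∈ D.Lc 0, z ∉ A (i + 1) →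
    D.act z (f i (g i)) ∉ D.S (piv g i) ⊔ K ∙ D.act (g i) (f i (g i))

variable {D}
variable {k : ℕ} {g : ℕ → L} {f : ℕ → L →ₗ[K] T} {A : ℕ → Submodule K L}

theorem IsChain.piv_subset (h : D.IsChain k g f A) {i : ℕ} (hi : i ≤ k) :
    piv g i ⊆ ↑(D.Lc 0) := by
  rintro _ ⟨j, hj, rfl⟩
  exact h.mem j (lt_of_lt_of_le hj hi)

theorem act_piv_mem (g : ℕ → L) (i : ℕ) (t : T) :
    D.act (g i) t ∈ D.S (piv g (i + 1)) :=
  D.act_mem_S (by rw [piv_succ]; exact Set.mem_insert _ _) t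

theorem IsChain.act_wit_mem (h : D.IsChain k g f A) {i : ℕ} (hi : i < k) (z : L) :
    D.act z (f i (g i)) ∈ D.S (piv g (i + 1)) := by
  rw [piv_succ]
  exact D.act_Em_mem_S (D.Em_mono (Set.subset_insert _ _) (h.hf i hi)) (Set.mem_insert _ _) z

theorem IsChain.sep_mem (h : D.IsChain k g f A) {i : ℕ} (hi : i < k) {z : L} (hz : z ∈ D.Lc 0)
    (hzA : z ∉ A (i + 1)) {d : L} (hd : d ∈ K ∙ g i) :
    D.act (z + d) (f i (g i)) ∉ D.S (piv g i) ⊔ K ∙ D.act (g i) (f i (g i)) := by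
  obtain ⟨c, rfl⟩ := mem_span_singleton.mp hd
  intro hmem
  refine h.sep i hi z hz hzA ?_
  have := sub_mem hmem (le_sup_right (a := D.S (piv g i))
    (Submodule.smul_mem _ c (mem_span_singleton_self (D.act (g i) (f i (g i))))))
  simpa using this

theorem IsChain.lift (h : D.IsChain k g f A) {i : ℕ} (hi : i < k) {z : L} (hz : z ∈ D.Lc 0) :
    ∃ d ∈ K ∙ g i, z + d ∈ D.Lc 0 ∧ z + d ∉ A i := by
  by_cases hzA : z ∈ A i
  · refine ⟨g i, mem_span_singleton_self _, add_mem hz (h.mem i hi), fun h' => h.out i hi ?_⟩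
    simpa using sub_mem h' hzA
  · exact ⟨0, zero_mem _, by simpa using hz, by simpa using hzA⟩

theorem rk_shift [FiniteDimensional K T] (g : ℕ → L) (i : ℕ) (z : L) {d : L}
    (hd : d ∈ K ∙ g i) :
    D.rk (D.S (piv g (i + 1))) (z + d) = D.rk (D.S (piv g (i + 1))) z := by
  obtain ⟨c, rfl⟩ := mem_span_singleton.mp hd
  refine D.rk_congr fun t => ?_
  simp only [map_add, map_smul, LinearMap.add_apply, LinearMap.smul_apply, add_sub_cancel_left]
  exact Submodule.smul_mem _ c (act_piv_mem g i t)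

variable [FiniteDimensional K T] {b : ℕ}

theorem IsChain.rk_out (h : D.IsChain k g f A) (hb : ∀ v ∈ D.Lc 0, D.rk ⊥ v ≤ b) :
    ∀ i, i ≤ k → ∀ z ∈ D.Lc 0, z ∉ A i → D.rk (D.S (piv g i)) z + i ≤ b := by
  intro i
  induction i with
  | zero =>
    intro _ z hz _
    have := D.rk_mono (bot_le (a := D.S (piv g 0))) z
    have := hb z hz
    omega
  | succ i ih =>
    intro hi z hz hzA
    obtain ⟨d, hd, hzd, hzdA⟩ := h.lift hi hz
    have h1 := ih (by omega) _ hzd hzdA
    have h2 := D.rk_lt (D.S_mono (piv_mono g (Nat.le_succ i))) (h.act_wit_mem hi (z + d))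
      (fun h' => h.sep_mem hi hz hzA hd (mem_sup_left h'))
    rw [rk_shift g i z hd] at h2
    omega

theorem IsChain.rk_all (h : D.IsChain k g f A) (hb : ∀ v ∈ D.Lc 0, D.rk ⊥ v ≤ b) :
    ∀ i, i ≤ k → ∀ z ∈ D.Lc 0, D.rk (D.S (piv g i)) z + i ≤ b + 1 := by
  intro i hi z hz
  cases i with
  | zero =>
    have := D.rk_mono (bot_le (a := D.S (piv g 0))) z
    have := hb z hz
    omega
  | succ i =>
    obtain ⟨d, hd, hzd, hzdA⟩ := h.lift hi hz
    have h1 := h.rk_out hb i (by omega) _ hzd hzdA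
    have h2 := D.rk_mono (D.S_mono (piv_mono g (Nat.le_succ i))) (z + d)
    rw [rk_shift g i z hd] at h2
    omega

theorem IsChain.le_b (h : D.IsChain k g f A) (hb : ∀ v ∈ D.Lc 0, D.rk ⊥ v ≤ b) : k ≤ b := by
  obtain ⟨z, hz, hzA⟩ := (h.hyp k le_rfl).1
  have := h.rk_out hb k le_rfl z hz hzA
  omega

theorem finrank_piv_succ (g : ℕ → L) (i : ℕ) :
    Module.finrank K ↥(D.S (piv g (i + 1))) =
      Module.finrank K ↥(D.S (piv g i)) + D.rk (D.S (piv g i)) (g i) := by
  rw [piv_succ, S_insert, finrank_sup_range]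

theorem IsChain.finrank_le (h : D.IsChain k g f A) (hb : ∀ v ∈ D.Lc 0, D.rk ⊥ v ≤ b) :
    ∀ i, i ≤ k → Module.finrank K ↥(D.S (piv g i)) ≤ ∑ j ∈ range i, (b - j) := by
  intro i
  induction i with
  | zero =>
    intro _
    have : D.S (piv g 0) = ⊥ := by
      rw [eq_bot_iff, S_le_iff]
      rintro _ ⟨j, hj, -⟩
      exact absurd hj (Nat.not_lt_zero j)
    rw [this, finrank_bot]
    exact Nat.zero_le _
  | succ i ih =>
    intro hi
    have h1 := h.rk_out hb i (by omega) _ (h.mem i hi) (h.out i hi)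
    have h2 := ih (by omega)
    rw [finrank_piv_succ, sum_range_succ]
    omega

theorem IsChain.rk_of_full (h : D.IsChain k g f A) (hb : ∀ v ∈ D.Lc 0, D.rk ⊥ v ≤ b)
    (hfull : ∑ j ∈ range k, (b - j) ≤ Module.finrank K ↥(D.S (piv g k))) {i : ℕ} (hi : i < k) :
    b - i ≤ D.rk (D.S (piv g i)) (g i) := by
  have key : ∀ n i, i + n = k → ∑ j ∈ range i, (b - j) ≤ Module.finrank K ↥(D.S (piv g i)) := by
    intro n
    induction n with
    | zero => intro i hi; rwa [show i = k by omega]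
    | succ n ih =>
      intro i hi
      have h1 := h.rk_out hb i (by omega) _ (h.mem i (by omega)) (h.out i (by omega))
      have h2 := ih (i + 1) (by omega)
      rw [finrank_piv_succ, sum_range_succ] at h2
      omega
  have h1 := key (k - (i + 1)) (i + 1) (by omega)
  have h2 := h.finrank_le hb i (by omega)
  rw [finrank_piv_succ, sum_range_succ] at h1
  omega

omit [FiniteDimensional K T] in
theorem two_mul_sum {k : ℕ} (hk : k ≤ b) :
    2 * (∑ j ∈ range k, (b - j)) + (b - k) * (b - k + 1) = b * (b + 1) := by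
  induction k with
  | zero => simp
  | succ k ih =>
    have h1 := ih (by omega)
    obtain ⟨d, hd⟩ := Nat.exists_eq_add_of_lt hk
    rw [sum_range_succ]
    rw [show b - k = d + 1 by omega] at h1 ⊢
    rw [show b - (k + 1) = d by omega]
    linarith [show (d + 1) * (d + 1 + 1) = d * (d + 1) + 2 * (d + 1) by ring]

end CfsgLib.PGroup.Breadth.BData
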