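import Mathlib.LinearAlgebra.Span.Basic
import Mathlib.Algebra.Module.Submodule.Lattice

/-!
The collapse lemma for families of bilinear maps with values on the lines of their diagonals.
-/

set_option autoImplicit false

namespace CfsgLib.PGroup.Breadth

open Submodule

variable {K M : Type*} [Field K] [AddCommGroup M] [Module K M]

theorem eq_zero_of_mem_two_lines {a b x : M} (hb : b ∉ span K {a}) (h1 : x ∈ span K {a})
    (h2 : x ∈ span K {b}) : x = 0 := by
  obtain ⟨c, rfl⟩ := mem_span_singleton.mp h2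
  by_contra h
  have hc : c ≠ 0 := fun hc => h (by simp [hc])
  exact hb (by simpa [smul_smul, inv_mul_cancel₀ hc] using Submodule.smul_mem _ c⁻¹ h1)

theorem not_both_mem_line {a b q : M} (ha : a ≠ 0) (hb : b ∉ span K {a}) (h1 : a ∈ span K {q})
    (h2 : b ∈ span K {q}) : False := by
  obtain ⟨c, rfl⟩ := mem_span_singleton.mp h1
  obtain ⟨d, rfl⟩ := mem_span_singleton.mp h2
  have hc : c ≠ 0 := fun hc => ha (by simp [hc])
  apply hb
  refine mem_span_singleton.mpr ⟨d * c⁻¹, ?_⟩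
  rw [smul_smul, mul_assoc, inv_mul_cancel₀ hc, mul_one]

variable (K) in
/-- The span of the diagonal values at `g`. -/
def diagSpan {E L : Type*} (B : E → L → L → M) (g : L) : Submodule K M :=
  span K (Set.range fun f => B f g g)

theorem collapse {E L : Type*} [AddCommGroup E] [AddCommGroup L] [Module K L]
    (B : E → L → L → M) (hBf : ∀ f f' x y, B (f + f') x y = B f x y + B f' x y)
    (hBv : ∀ f x y y', B f x (y + y') = B f x y + B f x y')
    (hBs : ∀ f x y (c : K), B f x (c • y) = c • B f x y)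
    (Out : L → Prop) (hne : ∃ g, Out g)
    (h2 : ∀ g₁ g₂, Out g₁ → Out g₂ → ∀ c : K, c ≠ 0 → c ≠ 1 →
      Out (g₁ + g₂) ∨ Out (g₁ + c • g₂))
    (h3 : ∀ g₁ g₂ g₃, Out g₁ → Out g₂ → Out g₃ → (∀ c : K, c = 0 ∨ c = 1) → Out (g₁ + g₂ + g₃))
    (hL : ∀ g, Out g → ∀ f z, B f z g ∈ span K {B f g g})
    (hR : ∀ g, Out g → ∀ f v, B f g v ∈ span K {B f g g}) :
    (∃ g₁, Out g₁ ∧ ∀ g, Out g → diagSpan K B g ≤ diagSpan K B g₁) ∨
      ((∀ c : K, c = 0 ∨ c = 1) ∧ ∃ g₁ g₂ f₀, Out g₁ ∧ Out g₂ ∧ B f₀ g₁ g₁ ≠ 0 ∧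
        B f₀ g₂ g₂ ∉ span K {B f₀ g₁ g₁} ∧
        ∀ g, Out g → diagSpan K B g ≤ diagSpan K B g₁ ⊔ diagSpan K B g₂) := by
  classical
  have mem : ∀ f g, B f g g ∈ diagSpan K B g := fun f g => subset_span ⟨f, rfl⟩
  have line : ∀ f g, span K {B f g g} ≤ diagSpan K B g := fun f g =>
    (span_singleton_le_iff_mem _ _).mpr (mem f g)
  by_cases hind : ∃ g₁ g₂ f₀, Out g₁ ∧ Out g₂ ∧ B f₀ g₁ g₁ ≠ 0 ∧
      B f₀ g₂ g₂ ∉ span K {B f₀ g₁ g₁}
  · obtain ⟨g₁, g₂, f₀, o₁, o₂, hu₁, hu₂⟩ := hind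
    have x12 : B f₀ g₁ g₂ = 0 :=
      eq_zero_of_mem_two_lines hu₂ (hR g₁ o₁ f₀ g₂) (hL g₂ o₂ f₀ g₁)
    have x21 : B f₀ g₂ g₁ = 0 :=
      eq_zero_of_mem_two_lines hu₂ (hL g₁ o₁ f₀ g₂) (hR g₂ o₂ f₀ g₁)
    by_cases hK : ∀ c : K, c = 0 ∨ c = 1
    · refine Or.inr ⟨hK, g₁, g₂, f₀, o₁, o₂, hu₁, hu₂, fun g₃ o₃ => ?_⟩
      -- one of the two cross values is nonzero
      have o : Out (g₁ + g₂ + g₃) := h3 _ _ _ o₁ o₂ o₃ hK
      have hx : B f₀ g₁ g₃ ≠ 0 ∨ B f₀ g₂ g₃ ≠ 0 := by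
        by_contra h
        push Not at h
        have e1 := hL _ o f₀ g₁
        have e2 := hL _ o f₀ g₂
        rw [hBv _ g₁, hBv _ g₁, x12, h.1, add_zero, add_zero] at e1
        rw [hBv _ g₂, hBv _ g₂, x21, h.2, zero_add, add_zero] at e2
        exact not_both_mem_line hu₁ hu₂ e1 e2
      suffices key : ∀ gi, Out gi → B f₀ gi g₃ ≠ 0 → diagSpan K B g₃ ≤ diagSpan K B gi by
        rcases hx with h | h
        · exact (key g₁ o₁ h).trans le_sup_left
        · exact (key g₂ o₂ h).trans le_sup_right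
      intro gi oi hne'
      have hq : B f₀ g₃ g₃ = B f₀ gi gi ∧ B f₀ gi g₃ = B f₀ gi gi := by
        obtain ⟨c, hc⟩ := mem_span_singleton.mp (hR gi oi f₀ g₃)
        obtain ⟨d, hd⟩ := mem_span_singleton.mp (hL g₃ o₃ f₀ gi)
        have c1 : c = 1 := (hK c).resolve_left fun h => hne' (by rw [← hc, h, zero_smul])
        have d1 : d = 1 := (hK d).resolve_left fun h => hne' (by rw [← hd, h, zero_smul])
        rw [c1, one_smul] at hc
        rw [d1, one_smul] at hd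
        exact ⟨hd.trans hc.symm, hc.symm⟩
      refine span_le.mpr ?_
      rintro _ ⟨f, rfl⟩
      show B f g₃ g₃ ∈ diagSpan K B gi
      by_contra hq'
      have hz : B f gi g₃ = 0 := by
        by_contra h
        obtain ⟨d, hd⟩ := mem_span_singleton.mp (hL g₃ o₃ f gi)
        have d1 : d = 1 := (hK d).resolve_left fun h' => h (by rw [← hd, h', zero_smul])
        rw [d1, one_smul] at hd
        exact hq' (hd ▸ line f gi (hR gi oi f g₃))
      have e := hL g₃ o₃ (f + f₀) gi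
      rw [hBf, hBf, hz, zero_add, hq.1, hq.2] at e
      obtain ⟨d, hd⟩ := mem_span_singleton.mp e
      have d1 : d = 1 := (hK d).resolve_left fun h' => by
        rw [h', zero_smul] at hd
        exact hne' (by rw [hq.2, ← hd])
      rw [d1, one_smul, add_eq_right] at hd
      exact hq' (by rw [hd]; exact zero_mem _)
    · push Not at hK
      obtain ⟨c, hc0, hc1⟩ := hK
      have main : ∀ c' : K, c' ≠ 0 → Out (g₁ + c' • g₂) → False := fun c' hc' o => by
        have e1 := hL _ o f₀ g₁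
        have e2 := hL _ o f₀ g₂
        rw [hBv _ g₁, hBs _ g₁, x12, smul_zero, add_zero] at e1
        rw [hBv _ g₂, hBs _ g₂, x21, zero_add] at e2
        exact not_both_mem_line hu₁ hu₂ e1
          (by simpa [smul_smul, inv_mul_cancel₀ hc'] using Submodule.smul_mem _ c'⁻¹ e2)
      rcases h2 g₁ g₂ o₁ o₂ c hc0 hc1 with o | o
      · exact (main 1 one_ne_zero (by rwa [one_smul])).elim
      · exact (main c hc0 o).elim
  · push Not at hind
    left
    by_cases hex : ∃ g₁ f₀, Out g₁ ∧ B f₀ g₁ g₁ ≠ 0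
    · obtain ⟨g₁, f₀, o₁, hu₁⟩ := hex
      refine ⟨g₁, o₁, fun g o => span_le.mpr ?_⟩
      rintro _ ⟨f, rfl⟩
      show B f g g ∈ diagSpan K B g₁
      by_contra hw
      have h0 : B f g₁ g₁ = 0 := by
        by_contra h
        exact hw (line f g₁ (hind g₁ g f o₁ o h))
      have e := hind g₁ g (f + f₀) o₁ o (by rwa [hBf, h0, zero_add])
      rw [hBf, hBf, h0, zero_add] at e
      exact hw (line f₀ g₁ (by simpa using sub_mem e (hind g₁ g f₀ o₁ o hu₁)))
    · push Not at hex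
      obtain ⟨g₁, o₁⟩ := hne
      refine ⟨g₁, o₁, fun g o => span_le.mpr ?_⟩
      rintro _ ⟨f, rfl⟩
      show B f g g ∈ diagSpan K B g₁
      rw [hex g f o]
      exact zero_mem _

end CfsgLib.PGroup.Breadth
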