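import Cfsg.Agent.Lib.PGroup.Breadth.Reduction
import Mathlib.GroupTheory.Index
import Mathlib.GroupTheory.Coset.Card
import Mathlib.Data.ZMod.Basic

/-!
Counting: the derived subgroup and the class sizes in terms of the layers.
-/

set_option autoImplicit false

namespace CfsgLib.PGroup.Breadth.Reduction

open CfsgLib.Solvable.AssocLieRing
open scoped commutatorElement

universe u

variable {p : ℕ} {G : Type u} [Group G] [Finite (LieR G)]

theorem card_map_mul_card_inf {A B : Type*} [AddCommGroup A] [AddCommGroup B] (f : A →+ B)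
    (H : AddSubgroup A) : Nat.card (H.map f) * Nat.card ↥(H ⊓ f.ker) = Nat.card H := by
  have h1 := (f.comp H.subtype).ker.index_mul_card
  rw [AddSubgroup.index_ker, AddMonoidHom.range_comp, AddSubgroup.range_subtype] at h1
  have h2 : (f.comp H.subtype).ker = (H ⊓ f.ker).addSubgroupOf H := by
    ext x
    simp [AddSubgroup.mem_addSubgroupOf]
  rw [h2, Nat.card_congr (AddSubgroup.addSubgroupOfEquivOfLe inf_le_left).toEquiv] at h1
  exact h1

variable (p) in
/-- The image of a subgroup in a layer. -/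
noncomputable def im (I : AddSubgroup (LieR G)) (a : ℕ) : AddSubgroup (Quo p G a) := I.map (mk p a)

theorem mk_rg_ker (a : ℕ) : (QuotientAddGroup.mk' (rg p G a)).ker = rg p G a :=
  QuotientAddGroup.ker_mk' _

theorem card_im_eq (I : AddSubgroup (LieR G)) (a : ℕ) :
    Nat.card (im p I a) =
      Nat.card ((I.map (nsmulAddMonoidHom (p ^ a))).map (QuotientAddGroup.mk' (rg p G (a + 1)))) := by
  set ψ := (QuotientAddGroup.mk' (rg p G (a + 1))).comp (nsmulAddMonoidHom (p ^ a)) with hψ
  have hk : ψ.ker = Ker p G a := by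
    rw [hψ, ← AddMonoidHom.comap_ker, mk_rg_ker]
    rfl
  have h1 := card_map_mul_card_inf ψ I
  have h2 := card_map_mul_card_inf (mk p a) I
  rw [show (mk p a : LieR G →+ _).ker = Ker p G a from QuotientAddGroup.ker_mk' _] at h2
  rw [hk, hψ, ← AddSubgroup.map_map] at h1
  exact Nat.eq_of_mul_eq_mul_right Nat.card_pos (h2.trans h1.symm)

theorem rg_le {a : ℕ} : rg p G (a + 1) ≤ rg p G a := by
  rintro _ ⟨r, rfl⟩
  exact ⟨p • r, by simp [smul_smul, pow_succ]⟩

theorem card_rg_step (I : AddSubgroup (LieR G)) (a : ℕ) :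
    Nat.card ((I ⊓ rg p G a).map (QuotientAddGroup.mk' (rg p G (a + 1)))) *
      Nat.card ↥(I ⊓ rg p G (a + 1)) = Nat.card ↥(I ⊓ rg p G a) := by
  have h := card_map_mul_card_inf (QuotientAddGroup.mk' (rg p G (a + 1))) (I ⊓ rg p G a)
  rw [mk_rg_ker, inf_assoc, inf_eq_right.mpr rg_le] at h
  exact h

theorem map_pow_le (I : AddSubgroup (LieR G)) (a : ℕ) :
    I.map (nsmulAddMonoidHom (p ^ a)) ≤ I ⊓ rg p G a := by
  rintro _ ⟨x, hx, rfl⟩
  exact ⟨I.nsmul_mem hx _, x, rfl⟩

theorem prod_card_im_le (I : AddSubgroup (LieR G)) : ∀ m,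
    (∏ a ∈ Finset.range m, Nat.card (im p I a)) * Nat.card ↥(I ⊓ rg p G m) ≤ Nat.card I := by
  intro m
  induction m with
  | zero =>
    rw [Finset.prod_range_zero, one_mul]
    exact AddSubgroup.card_le_of_le inf_le_left
  | succ m ih =>
    refine le_trans ?_ ih
    rw [Finset.prod_range_succ, mul_assoc]
    refine Nat.mul_le_mul_left _ ?_
    rw [← card_rg_step I m, card_im_eq]
    exact Nat.mul_le_mul_right _ (AddSubgroup.card_le_of_le (AddSubgroup.map_mono (map_pow_le I m)))

theorem le_prod_card_im (I : AddSubgroup (LieR G))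
    (hI : ∀ a, I ⊓ rg p G a ≤ I.map (nsmulAddMonoidHom (p ^ a))) : ∀ m,
    Nat.card I ≤ (∏ a ∈ Finset.range m, Nat.card (im p I a)) * Nat.card ↥(I ⊓ rg p G m) := by
  intro m
  induction m with
  | zero =>
    rw [Finset.prod_range_zero, one_mul]
    refine AddSubgroup.card_le_of_le (le_inf le_rfl fun x _ => ⟨x, ?_⟩)
    simp
  | succ m ih =>
    refine le_trans ih ?_
    rw [Finset.prod_range_succ, mul_assoc]
    refine Nat.mul_le_mul_left _ ?_
    rw [← card_rg_step I m, card_im_eq]
    exact Nat.mul_le_mul_right _ (AddSubgroup.card_le_of_le (AddSubgroup.map_mono (hI m)))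

variable (G) in
/-- The elements of positive degree. -/
noncomputable def pos : AddSubgroup (LieR G) :=
  (DFinsupp.evalAddMonoidHom (β := fun m => Q G m) 0).ker

theorem mem_pos {x : LieR G} : x ∈ pos G ↔ x 0 = 0 := Iff.rfl

theorem pos_inf_rg (a : ℕ) : pos G ⊓ rg p G a ≤ (pos G).map (nsmulAddMonoidHom (p ^ a)) := by
  rintro x ⟨hx, r, rfl⟩
  refine ⟨r - comp 0 r, ?_, ?_⟩
  · show (r - comp 0 r : LieR G) 0 = 0
    rw [DirectSum.sub_apply, comp_apply, DirectSum.of_eq_same, sub_self]
  · have h0 : comp 0 (p ^ a • r) = 0 := by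
      rw [comp_apply, show (p ^ a • r : LieR G) 0 = 0 from hx, map_zero]
    show p ^ a • (r - comp 0 r) = p ^ a • r
    rw [smul_sub, ← map_nsmul (comp 0), h0, sub_zero]

variable [Finite G] [Fact p.Prime]

theorem card_range_act_le (N : ℕ) (hN : γ G N = ⊥) (x : LieR G) :
    Nat.card ↥(LinearMap.range ((data p N hN).act (mk p 0 x))) ≤ Nat.card ↥(bra x).range := by
  set I := (bra x).range
  have h : ∀ t : Tot p G N, ∀ a : Fin (N + 1), actL N (mk p 0 x) t a ∈ im p I (a : ℕ) := by
    intro t a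
    obtain ⟨y, hy⟩ := mk_surj (t a)
    rw [actL_apply, ← hy, br_mk]
    exact ⟨bra x y, ⟨y, rfl⟩, rfl⟩
  let F : ↥(LinearMap.range ((data p N hN).act (mk p 0 x))) → ∀ a : Fin (N + 1), ↥(im p I (a : ℕ)) :=
    fun t a => ⟨t.1 a, by obtain ⟨s, hs⟩ := t.2; rw [← hs]; exact h s a⟩
  have hF : Function.Injective F := fun t t' e =>
    Subtype.ext (funext fun a => congrArg Subtype.val (congrFun e a))
  refine (Nat.card_le_card_of_injective F hF).trans ?_
  rw [Nat.card_pi, Fin.prod_univ_eq_prod_range (fun a => Nat.card (im p I a)) (N + 1)]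
  exact le_trans (Nat.le_mul_of_pos_right _ Nat.card_pos) (prod_card_im_le I (N + 1))

theorem card_pos_le (N : ℕ) (hN : γ G N = ⊥) (hexp : ∀ x : LieR G, p ^ (N + 1) • x = 0) :
    Nat.card (pos G) ≤ Nat.card ↥((data p N hN).S ↑((data p N hN).Lc 0)) := by
  set D := data p N hN
  have hb : ∀ y : LieR G, mk p 0 (y - comp 0 y) ∈
      ⨆ v ∈ (deg 0 : Submodule (ZMod p) (Quo p G 0)),
        Submodule.map (LieAlgebra.ad (ZMod p) (Quo p G 0) v) ⊤ := by
    intro y
    induction y using lie_induction with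
    | h0 => simp
    | hadd u v hu hv =>
      rw [map_add (comp 0), add_sub_add_comm, map_add]
      exact add_mem hu hv
    | hcls m g hg =>
      cases m with
      | zero => rw [comp_cls_self, sub_self, map_zero]; exact zero_mem _
      | succ m =>
        rw [comp_cls_ne (by omega), sub_zero]
        exact iSup₂_mono (fun v _ => Submodule.map_mono le_top) (gen_cls m hg).2
  have hsingle : ∀ (a : Fin (N + 1)), ∀ t ∈ im p (pos G) (a : ℕ),
      Pi.single (M := fun a : Fin (N + 1) => Quo p G (a : ℕ)) a t ∈ D.S ↑(D.Lc 0) := by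
    rintro a _ ⟨y, hy, rfl⟩
    have h1 : mk p 0 y ∈ brk (ZMod p) ↑(D.Lc 0) (⊤ : Submodule (ZMod p) (Quo p G 0)) := by
      have := hb y
      rwa [comp_apply, show (y : LieR G) 0 = 0 from hy, map_zero, sub_zero] at this
    have H : brk (ZMod p) ↑(D.Lc 0) (⊤ : Submodule (ZMod p) (Quo p G 0)) ≤
        Submodule.comap (D.π a) (D.S ↑(D.Lc 0)) :=
      brk_le_iff.mpr fun h hh x _ => D.π_lie_mem_S hh a x
    exact H h1
  let F : (∀ a : Fin (N + 1), ↥(im p (pos G) (a : ℕ))) → ↥(D.S ↑(D.Lc 0)) := fun t =>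
    ⟨fun a => (t a).1, by
      rw [← Finset.univ_sum_single (fun a => (t a).1)]
      exact sum_mem fun a _ => hsingle a _ (t a).2⟩
  have hF : Function.Injective F := fun t t' e =>
    funext fun a => Subtype.ext (congrFun (congrArg Subtype.val e) a)
  refine le_trans ?_ (Nat.card_le_card_of_injective F hF)
  rw [Nat.card_pi, Fin.prod_univ_eq_prod_range (fun a => Nat.card (im p (pos G) a)) (N + 1)]
  refine le_trans (le_prod_card_im (p := p) (pos G) pos_inf_rg (N + 1)) (le_of_eq ?_)
  have : pos G ⊓ rg p G (N + 1) = ⊥ := by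
    rw [eq_bot_iff]
    rintro _ ⟨-, r, rfl⟩
    exact hexp r
  rw [this, AddSubgroup.card_bot, mul_one]

theorem card_map_mul_card_inf' {A B : Type*} [Group A] [Group B] (f : A →* B) (H : Subgroup A) :
    Nat.card (H.map f) * Nat.card ↥(H ⊓ f.ker) = Nat.card H := by
  have h1 := (f.comp H.subtype).ker.index_mul_card
  rw [Subgroup.index_ker, MonoidHom.range_comp, Subgroup.range_subtype] at h1
  have h2 : (f.comp H.subtype).ker = (H ⊓ f.ker).subgroupOf H := by
    ext x
    simp [Subgroup.mem_subgroupOf]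
  rw [h2, Nat.card_congr (Subgroup.subgroupOfEquivOfLe inf_le_left).toEquiv] at h1
  exact h1

theorem card_γ_succ (n : ℕ) : Nat.card (γ G n) = Nat.card (Q G n) * Nat.card (γ G (n + 1)) := by
  rw [← Nat.card_congr (Subgroup.subgroupOfEquivOfLe (γ_anti (Nat.le_succ n))).toEquiv]
  exact Subgroup.card_eq_card_quotient_mul_card_subgroup _

/-- One step of the centralizer count. -/
theorem card_step (x : G) (n : ℕ) :
    Nat.card ↥(beta 0 n (q 0 x)).range *
        Nat.card ↥(Subgroup.centralizer ({x} : Set G) ⊓ γ G n) * Nat.card (γ G (n + 1)) ≤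
      Nat.card (γ G n) * Nat.card ↥(Subgroup.centralizer ({x} : Set G) ⊓ γ G (n + 1)) := by
  set C := Subgroup.centralizer ({x} : Set G)
  set φ := beta 0 n (q 0 x) with hφ
  set mkH : γ G n →* Fac G n := QuotientGroup.mk' _ with hmkH
  set H : Subgroup (Fac G n) := (C.subgroupOf (γ G n)).map mkH with hH
  have h1 := card_map_mul_card_inf' mkH (C.subgroupOf (γ G n))
  rw [hmkH, QuotientGroup.ker_mk', ← hmkH, ← hH] at h1
  have e1 : Nat.card ↥(C.subgroupOf (γ G n)) = Nat.card ↥(C ⊓ γ G n) := by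
    rw [← Subgroup.inf_subgroupOf_right,
      Nat.card_congr (Subgroup.subgroupOfEquivOfLe inf_le_right).toEquiv]
  have e2 : Nat.card ↥(C.subgroupOf (γ G n) ⊓ (γ G (n + 1)).subgroupOf (γ G n)) =
      Nat.card ↥(C ⊓ γ G (n + 1)) := by
    rw [show C.subgroupOf (γ G n) ⊓ (γ G (n + 1)).subgroupOf (γ G n) =
        (C ⊓ γ G (n + 1)).subgroupOf (γ G n) from (Subgroup.comap_inf _ _ _).symm,
      Nat.card_congr (Subgroup.subgroupOfEquivOfLe (inf_le_right.trans (γ_anti (Nat.le_succ n)))).toEquiv]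
  rw [e1, e2] at h1
  have h2 := φ.ker.index_mul_card
  rw [AddSubgroup.index_ker] at h2
  have h3 : Nat.card H ≤ Nat.card φ.ker := by
    refine Nat.card_le_card_of_injective (fun h => (⟨Additive.ofMul h.1, ?_⟩ : φ.ker)) ?_
    · obtain ⟨c, hc, e⟩ := h.2
      rw [← e]
      have hq : q n (c : G) = Additive.ofMul (mkH c) := by rw [q, dif_pos c.2]; rfl
      show φ (Additive.ofMul (mkH c)) = 0
      rw [← hq, hφ]
      show q (0 + n + 1) ⁅rep (q 0 x), rep (q n (c : G))⁆ = 0
      rw [q_comm_congr (rep_mem _) (show x ∈ γ G 0 from Subgroup.mem_top x) (rep_mem _) c.2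
        (q_rep _) (q_rep _)]
      have hcx : ⁅x, (c : G)⁆ = 1 := commutatorElement_eq_one_iff_commute.mpr
        (Subgroup.mem_centralizer_singleton_iff.mp hc).symm
      rw [hcx, q_one]
    · intro h h' e
      exact Subtype.ext (Additive.ofMul.injective (congrArg Subtype.val e :))
  rw [card_γ_succ n, ← h2, ← h1]
  calc Nat.card ↥φ.range * (Nat.card H * Nat.card ↥(C ⊓ γ G (n + 1))) * Nat.card (γ G (n + 1))
      ≤ Nat.card ↥φ.range * (Nat.card φ.ker * Nat.card ↥(C ⊓ γ G (n + 1))) *
          Nat.card (γ G (n + 1)) := by gcongr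
    _ = _ := by ring

theorem prod_range_beta_le (x : G) {N : ℕ} (hN : γ G N = ⊥) :
    ∏ n ∈ Finset.range N, Nat.card ↥(beta 0 n (q 0 x)).range ≤
      (Subgroup.centralizer ({x} : Set G)).index := by
  set C := Subgroup.centralizer ({x} : Set G) with hC
  have key : ∀ n, (∏ m ∈ Finset.range n, Nat.card ↥(beta 0 m (q 0 x)).range) *
      Nat.card (γ G n) * Nat.card C ≤ Nat.card G * Nat.card ↥(C ⊓ γ G n) := by
    intro n
    induction n with
    | zero =>
      have e : C ⊓ γ G 0 = C := inf_eq_left.mpr le_top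
      rw [Finset.prod_range_zero, one_mul, e]
      exact Nat.mul_le_mul_right _ (Subgroup.card_le_card_group _)
    | succ n ih =>
      have h := card_step x n
      rw [← hC] at h
      rw [Finset.prod_range_succ]
      refine Nat.le_of_mul_le_mul_right (c := Nat.card ↥(C ⊓ γ G n)) ?_ Nat.card_pos
      calc (∏ m ∈ Finset.range n, Nat.card ↥(beta 0 m (q 0 x)).range) *
            Nat.card ↥(beta 0 n (q 0 x)).range * Nat.card (γ G (n + 1)) * Nat.card C *
            Nat.card ↥(C ⊓ γ G n)
          = (∏ m ∈ Finset.range n, Nat.card ↥(beta 0 m (q 0 x)).range) * Nat.card C *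
            (Nat.card ↥(beta 0 n (q 0 x)).range * Nat.card ↥(C ⊓ γ G n) *
              Nat.card (γ G (n + 1))) := by ring
        _ ≤ (∏ m ∈ Finset.range n, Nat.card ↥(beta 0 m (q 0 x)).range) * Nat.card C *
            (Nat.card (γ G n) * Nat.card ↥(C ⊓ γ G (n + 1))) := Nat.mul_le_mul_left _ h
        _ = ((∏ m ∈ Finset.range n, Nat.card ↥(beta 0 m (q 0 x)).range) * Nat.card (γ G n) *
            Nat.card C) * Nat.card ↥(C ⊓ γ G (n + 1)) := by ring
        _ ≤ (Nat.card G * Nat.card ↥(C ⊓ γ G n)) * Nat.card ↥(C ⊓ γ G (n + 1)) :=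
            Nat.mul_le_mul_right _ ih
        _ = _ := by ring
  have h := key N
  rw [hN, inf_bot_eq, Subgroup.card_bot, mul_one, mul_one, ← C.index_mul_card] at h
  exact Nat.le_of_mul_le_mul_right h Nat.card_pos

theorem card_range_bra_le (x : G) {N : ℕ} (hN : γ G N = ⊥) :
    Nat.card ↥(bra (cls 0 x)).range ≤ (Subgroup.centralizer ({x} : Set G)).index := by
  refine le_trans ?_ (prod_range_beta_le x hN)
  rw [← Fin.prod_univ_eq_prod_range (fun n => Nat.card ↥(beta 0 n (q 0 x)).range) N, ← Nat.card_pi]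
  have hx : x ∈ γ G 0 := Subgroup.mem_top x
  have hval : ∀ (n : ℕ) (y : LieR G),
      (bra (cls 0 x) y : LieR G) (0 + n + 1) = beta 0 n (q 0 x) (y n) := by
    intro n y
    induction y using lie_induction with
    | h0 => simp
    | hadd u v hu hv => simp only [map_add, DirectSum.add_apply, hu, hv]
    | hcls m g hg =>
      rw [← lie_def, lie_cls hx hg]
      rcases eq_or_ne n m with rfl | h
      · rw [cls_apply_self, cls_apply_self]
        exact (q_comm_congr (rep_mem _) hx (rep_mem _) hg (q_rep _) (q_rep _)).symm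
      · rw [cls_apply_ne (by omega), cls_apply_ne h, map_zero]
  have h0 : ∀ y : LieR G, (bra (cls 0 x) y : LieR G) 0 = 0 := by
    intro y
    induction y using lie_induction with
    | h0 => simp
    | hadd u v hu hv => simp only [map_add, DirectSum.add_apply, hu, hv, add_zero]
    | hcls m g hg => rw [← lie_def, lie_cls hx hg, cls_apply_ne (by omega)]
  refine Nat.card_le_card_of_injective
    (fun t n => (⟨t.1 (0 + (n : ℕ) + 1), ?_⟩ : ↥(beta 0 (n : ℕ) (q 0 x)).range)) ?_
  · obtain ⟨y, hy⟩ := t.2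
    rw [← hy, hval]
    exact ⟨y n, rfl⟩
  · rintro ⟨_, y, rfl⟩ ⟨_, y', rfl⟩ e
    refine Subtype.ext (DFinsupp.ext fun m => ?_)
    rcases Nat.eq_zero_or_pos m with rfl | hm
    · exact (h0 y).trans (h0 y').symm
    · by_cases hmN : m - 1 < N
      · have key : ∀ j, j = 0 + ((⟨m - 1, hmN⟩ : Fin N) : ℕ) + 1 →
            (bra (cls 0 x) y : LieR G) j = (bra (cls 0 x) y' : LieR G) j := fun j hj => by
          subst hj
          exact congrArg Subtype.val (congrFun e ⟨m - 1, hmN⟩)
        exact key m (by simp; omega)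
      · exact (q_eq_zero_of_bot hN (by omega) _).trans (q_eq_zero_of_bot hN (by omega) _).symm

theorem card_commutator_le_pos {N : ℕ} (hN : γ G N = ⊥) :
    Nat.card (γ G 1) ≤ Nat.card (pos G) := by
  have key : ∀ k n, N ≤ n + k →
      Nat.card (γ G n) ≤ Nat.card {y : LieR G // ∀ m, m < n → y m = 0} := by
    intro k
    induction k with
    | zero =>
      intro n hn
      have hbot : γ G n = ⊥ := eq_bot_iff.mpr (hN ▸ γ_anti (by omega))
      rw [hbot, Subgroup.card_bot]
      haveI : Nonempty {y : LieR G // ∀ m, m < n → y m = 0} := ⟨⟨0, fun m _ => rfl⟩⟩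
      exact Nat.card_pos
    | succ k ih =>
      intro n hn
      rw [card_γ_succ n]
      refine le_trans (Nat.mul_le_mul_left _ (ih (n + 1) (by omega))) ?_
      rw [← Nat.card_prod]
      refine Nat.card_le_card_of_injective
        (fun t => ⟨DirectSum.of (fun m => Q G m) n t.1 + t.2.1, fun m hm => ?_⟩) ?_
      · rw [DirectSum.add_apply, DirectSum.of_eq_of_ne n m _ (by omega), t.2.2 m (by omega),
          add_zero]
      · intro t t' e
        have e' := congrArg Subtype.val e
        have h1 : t.1 = t'.1 := by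
          have := congrArg (fun z : LieR G => z n) e'
          simpa [DirectSum.of_eq_same, t.2.2 n (Nat.lt_succ_self n),
            t'.2.2 n (Nat.lt_succ_self n)] using this
        refine Prod.ext h1 (Subtype.ext ?_)
        simpa [h1] using e'
  refine (key N 1 (by omega)).trans (Nat.card_le_card_of_injective
    (fun y => (⟨y.1, y.2 0 Nat.one_pos⟩ : pos G)) fun y y' e => ?_)
  exact Subtype.ext (congrArg Subtype.val e :)

omit [Finite (LieR G)] [Fact p.Prime] in
theorem finite_lieR {N : ℕ} (hN : γ G N = ⊥) : Finite (LieR G) := by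
  refine Finite.of_injective (fun (y : LieR G) (n : Fin N) => y (n : ℕ)) fun y y' e => ?_
  refine DFinsupp.ext fun m => ?_
  by_cases hm : m < N
  · exact congrFun e ⟨m, hm⟩
  · exact (q_eq_zero_of_bot hN (by omega) _).trans (q_eq_zero_of_bot hN (by omega) _).symm

omit [Finite (LieR G)] in
/-- Vaughan-Lee's theorem. -/
theorem card_commutator_le (hG : IsPGroup p G) (b : ℕ)
    (hb : ∀ x : G, (Subgroup.centralizer ({x} : Set G)).index ≤ p ^ b) :
    Nat.card (commutator G) ≤ p ^ (b * (b + 1) / 2) := by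
  haveI : Group.IsNilpotent G := hG.isNilpotent
  obtain ⟨c, hc⟩ := Subgroup.nilpotent_iff_lowerCentralSeries.mp (inferInstance : Group.IsNilpotent G)
  obtain ⟨e, he⟩ := hG.exists_card_eq
  set N := c + e with hNdef
  have hN : γ G N = ⊥ := eq_bot_iff.mpr (hc ▸ γ_anti (G := G) (Nat.le_add_right c e))
  haveI : Finite (LieR G) := finite_lieR hN
  have hexp : ∀ x : LieR G, p ^ (N + 1) • x = 0 := fun x => by
    rw [show p ^ (N + 1) = p ^ (c + 1) * p ^ e by rw [← pow_add]; congr 1; omega, mul_smul, ← he,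
      card_nsmul, smul_zero]
  haveI : FiniteDimensional (ZMod p) (Tot p G N) := Module.Finite.of_finite
  set D := data p N hN
  have hp : 2 ≤ p := (Fact.out : p.Prime).two_le
  have hrk : ∀ v ∈ D.Lc 0, D.rk ⊥ v ≤ b := by
    intro v hv
    obtain ⟨x, -, rfl⟩ := mem_deg.mp hv
    have h1 := (card_range_act_le (p := p) N hN (cls 0 x)).trans ((card_range_bra_le x hN).trans (hb x))
    rw [Module.natCard_eq_pow_finrank (K := ZMod p), Nat.card_zmod] at h1
    have h2 := D.finrank_sup_range ⊥ (mk p 0 (cls 0 x))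
    rw [bot_sup_eq, finrank_bot, zero_add] at h2
    rw [← h2]
    exact (Nat.pow_le_pow_iff_right hp).mp h1
  have h1 := D.finrank_top_le hrk
  have h2 : Nat.card (commutator G) ≤ Nat.card ↥(D.S ↑(D.Lc 0)) := by
    refine le_trans ?_ ((card_commutator_le_pos hN).trans (card_pos_le N hN hexp))
    rw [commutator_def]
    exact le_of_eq rfl
  refine h2.trans ?_
  rw [Module.natCard_eq_pow_finrank (K := ZMod p), Nat.card_zmod]
  exact Nat.pow_le_pow_right (by omega) h1

end CfsgLib.PGroup.Breadth.Reduction
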