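import Cfsg.Agent.Lib.PGroup.Breadth.Tower

/-!
Detection: some word in the low pivots sees the top pair.
-/

set_option autoImplicit false

namespace CfsgLib.PGroup.Breadth.BData

open Submodule

variable {K L T ι : Type*} [Field K] [LieRing L] [LieAlgebra K L] [AddCommGroup T] [Module K T]
  {D : BData K L T ι} {k b : ℕ} {g : ℕ → L} {f : ℕ → L →ₗ[K] T} {A : ℕ → Submodule K L}

/-- The numerical value of a word in base `k`, the first letter being the most significant. -/
def val (k : ℕ) : List ℕ → ℕ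
  | [] => 0
  | i :: M => i * k ^ M.length + val k M

theorem val_lt {k : ℕ} : ∀ {M : List ℕ}, (∀ j ∈ M, j < k) → val k M < k ^ M.length := by
  intro M
  induction M with
  | nil => intro _; simp [val]
  | cons i M ih =>
    intro h
    have h1 := ih fun j hj => h j (by simp [hj])
    have h2 := Nat.mul_le_mul_right (k ^ M.length) (show i + 1 ≤ k from h i (by simp))
    rw [add_mul, one_mul] at h2
    rw [val, List.length_cons, pow_succ']
    omega

theorem val_append_lt {k : ℕ} (W : List ℕ) {X Y : List ℕ} (hl : X.length = Y.length)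
    (h : val k X < val k Y) : val k (W ++ X) < val k (W ++ Y) := by
  induction W with
  | nil => simpa
  | cons i W ih =>
    simp only [List.cons_append, val, List.length_append, hl]
    omega

theorem val_cons_lt {k i j : ℕ} {X Y : List ℕ} (hl : X.length = Y.length)
    (hX : ∀ a ∈ X, a < k) (hji : j < i) : val k (j :: X) < val k (i :: Y) := by
  have h1 := val_lt hX
  have h2 := Nat.mul_le_mul_right (k ^ X.length) (show j + 1 ≤ i from hji)
  rw [add_mul, one_mul] at h2
  simp only [val, ← hl]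
  omega

theorem split_word (i₀ : ℕ) : ∀ M : List ℕ, (∀ j ∈ M, j < i₀) ∨
    ∃ W p N, M = W ++ p :: N ∧ i₀ ≤ p ∧ ∀ j ∈ N, j < i₀ := by
  intro M
  induction M with
  | nil => left; simp
  | cons i M ih =>
    rcases ih with h | ⟨W, p, N, rfl, hp, hN⟩
    · by_cases hi : i < i₀
      · left; simpa [hi] using h
      · exact Or.inr ⟨[], i, M, rfl, by omega, h⟩
    · exact Or.inr ⟨i :: W, p, N, rfl, hp, hN⟩

omit [LieRing L] in
theorem map_mem_piv {k : ℕ} {M : List ℕ} (hM : ∀ j ∈ M, j < k) : ∀ h ∈ M.map g, h ∈ piv g k := by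
  intro h hh
  obtain ⟨j, hj, rfl⟩ := List.mem_map.mp hh
  exact ⟨j, hM j hj, rfl⟩

omit [LieRing L] in
theorem exists_map_of_piv {k : ℕ} : ∀ M : List L, (∀ h ∈ M, h ∈ piv g k) →
    ∃ M' : List ℕ, M'.map g = M ∧ ∀ j ∈ M', j < k := by
  intro M
  induction M with
  | nil => exact fun _ => ⟨[], rfl, by simp⟩
  | cons h M ih =>
    intro hM
    obtain ⟨M', hM', hlt⟩ := ih fun x hx => hM x (by simp [hx])
    obtain ⟨j, hj, rfl⟩ := hM h (by simp)
    exact ⟨j :: M', by simp [hM'], by simpa [Set.mem_Iio.mp hj] using hlt⟩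

variable (D) in
/-- The words of length `m` in the first `k` pivots, applied to degree zero. -/
def Um (g : ℕ → L) (k m : ℕ) : Submodule K L :=
  span K {y | ∃ M : List ℕ, M.length = m ∧ (∀ j ∈ M, j < k) ∧
    ∃ v ∈ D.Lc 0, wd (K := K) (M.map g) v = y}

theorem wd_mem_Um {m : ℕ} {M : List ℕ} (hl : M.length = m) (hM : ∀ j ∈ M, j < k) {v : L}
    (hv : v ∈ D.Lc 0) : wd (K := K) (M.map g) v ∈ Um D g k m :=
  subset_span ⟨M, hl, hM, v, hv, rfl⟩

theorem lie_mem_Um {m j : ℕ} (hj : j < k) {x : L} (hx : x ∈ Um D g k m) :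
    ⁅g j, x⁆ ∈ Um D g k (m + 1) := by
  have H : Um D g k m ≤ Submodule.comap (LieAlgebra.ad K L (g j)) (Um D g k (m + 1)) := by
    refine span_le.mpr ?_
    rintro _ ⟨M, rfl, hM, v, hv, rfl⟩
    exact wd_mem_Um (M := j :: M) rfl (by simpa [hj] using hM) hv
  exact H hx

theorem IsChain.Um_le (h : D.IsChain k g f A) (m : ℕ) : Um D g k m ≤ D.Lc m := by
  refine span_le.mpr ?_
  rintro _ ⟨M, rfl, hM, v, hv, rfl⟩
  have := D.wd_mem_Lc (M := M.map g) (fun x hx => h.piv_subset le_rfl (map_mem_piv hM x hx)) hv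
  simpa using this

theorem pr_pT_Em {P : Set L} (hP : P ⊆ ↑(D.Lc 0)) {φ : L →ₗ[K] T} (hφ : φ ∈ D.Em P) {x : L}
    (hx : x ∈ D.Lc 0) {X : Submodule K L} (hxX : x ∈ X) (m : ℕ) :
    D.pr (D.pT m (φ x)) ∈ U K P X := by
  refine D.Em_induction (C := fun φ => D.pr (D.pT m (φ x)) ∈ U K P X) (by simp)
    (fun f f' h h' => by simpa using add_mem h h')
    (fun c f h => by simpa using Submodule.smul_mem _ c h) (fun a M hM => ?_) hφ
  have hmem := D.wd_mem_Lc (M := M) (fun y hy => hP (hM y hy)) hx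
  rw [LinearMap.comp_apply]
  by_cases hm : m = 0 + M.length
  · rw [hm, D.pT_π_self _ _ _ hmem]
    by_cases ha : a = D.a0
    · rw [ha, D.pr_π0]; exact wd_mem_U hM hxX
    · simp [D.pr_π a ha]
  · simp [D.pT_π_ne _ _ _ hm _ hmem]

theorem pT_mem_S {P : Set L} (hP : P ⊆ ↑(D.Lc 0)) (m : ℕ) {t : T} (ht : t ∈ D.S P) :
    D.pT (m + 1) t ∈ D.S P := by
  have H : D.S P ≤ Submodule.comap (D.pT (m + 1)) (D.S P) :=
    D.S_le_iff.mpr fun x hx s => by
      show D.pT (m + 1) (D.act x s) ∈ D.S P
      rw [D.pT_act m x (hP hx)]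
      exact D.act_mem_S hx _
  exact H ht

variable [FiniteDimensional K T]

/-- Below the degree of a detecting word, the second element of the pair gives everything. -/
theorem IsChain.low (h : D.IsChain k g f A) (hb : ∀ v ∈ D.Lc 0, D.rk ⊥ v ≤ b) (hkb : k + 1 = b)
    (d : D.Pair (piv g k) (A k)) {a : ι} {M : List ℕ} (hM : ∀ j ∈ M, j < k)
    (hu : D.act d.g (D.π a (wd (K := K) (M.map g) d.g)) ∉ D.S (piv g k)) :
    ∀ m, m ≤ M.length → D.Lc m ≤ Um D g k m ⊔ W K (insert d.g' (piv g k)) := by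
  have hP := h.piv_subset le_rfl
  have hP2 : insert d.g' (piv g k) ⊆ ↑(D.Lc 0) := Set.insert_subset d.hg' hP
  set S := D.S (piv g k) with hS
  set u := D.act d.g (D.π a (wd (K := K) (M.map g) d.g)) with hu'
  have hline : D.R (piv g k) d.g ≤ S ⊔ K ∙ u := (D.R_le_range _ _).trans
    (D.range_le_of_rk_le_one (by have := h.rk_out hb k le_rfl _ d.hg d.hgA; rw [← hS] at this; omega)
      hu)
  have hdeg : ⁅d.g, wd (K := K) (M.map g) d.g⁆ ∈ D.Lc (M.length + 1) := by
    refine D.lie_mem _ _ d.hg _ ?_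
    have := D.wd_mem_Lc (M := M.map g) (fun x hx => hP (map_mem_piv hM x hx)) d.hg
    simpa using this
  intro m
  induction m with
  | zero => exact fun _ x hx => mem_sup_left (by simpa using wd_mem_Um (g := g) (M := []) rfl (by simp) hx)
  | succ m ih =>
    intro hm
    have ih' := ih (by omega)
    set Y := Um D g k (m + 1) ⊔ W K (insert d.g' (piv g k)) with hY
    have bP : brk K (piv g k) (D.Lc m) ≤ Y := brk_le_iff.mpr fun x hx y hy => by
      obtain ⟨j, hj, rfl⟩ := hx
      obtain ⟨p, hp, w, hw, rfl⟩ := Submodule.mem_sup.mp (ih' hy)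
      rw [lie_add]
      exact add_mem_sup (lie_mem_Um hj hp) (lie_mem_U (Or.inr ⟨j, hj, rfl⟩) hw)
    have hUm : ∀ z ∈ D.Lc 0, ∀ p ∈ Um D g k m, ⁅z, p⁆ ∈ Y := by
      intro z hz
      have H : Um D g k m ≤ Submodule.comap (LieAlgebra.ad K L z) Y := by
        refine span_le.mpr ?_
        rintro _ ⟨M', rfl, hM', v, hv, rfl⟩
        show ⁅z, wd (K := K) (M'.map g) v⁆ ∈ Y
        have hm' : wd (K := K) (M'.map g) v ∈ D.Lc M'.length :=
          h.Um_le _ (wd_mem_Um rfl hM' hv)
        obtain ⟨s, hs, r, hr, e⟩ := Submodule.mem_sup.mp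
          (d.dom _ (D.comp_wd_mem_Em (map_mem_piv hM') D.a0) z hz v hv)
        obtain ⟨r1, hr1, r2, hr2, rfl⟩ := Submodule.mem_sup.mp hr
        obtain ⟨s', hs', y, hy, rfl⟩ := Submodule.mem_sup.mp (hline hr1)
        obtain ⟨c, rfl⟩ := mem_span_singleton.mp hy
        obtain ⟨φ, hφ, rfl⟩ := hr2
        have e2 := congrArg (fun t => D.pr (D.pT (M'.length + 1) t)) e
        simp only [LinearMap.comp_apply, D.act_π, map_add, map_smul] at e2
        rw [D.pT_π_self _ _ _ (D.lie_mem _ _ hz _ hm'), D.pr_π0] at e2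
        rw [← e2]
        refine add_mem (bP (D.pr_pT_mem_brk hP _ hs)) (add_mem (add_mem
          (bP (D.pr_pT_mem_brk hP _ hs')) ?_) ?_)
        · rw [hu', D.act_π, D.pT_π_ne _ _ _ (by omega) _ hdeg]
          simp
        · show D.pr (D.pT (M'.length + 1) (D.act d.g' (φ d.g'))) ∈ Y
          rw [D.pT_act _ _ d.hg', D.pr_act]
          exact mem_sup_right (lie_mem_U (Set.mem_insert _ _) (U_mono (Set.subset_insert _ _) le_rfl
            (pr_pT_Em hP hφ d.hg' (subset_span (Set.mem_insert _ _)) _)))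
      exact fun p hp => H hp
    have b2 : brk K (insert d.g' (piv g k)) (D.Lc m) ≤ Y := brk_le_iff.mpr fun x hx y hy => by
      rcases hx with rfl | hx
      · obtain ⟨p, hp, w, hw, rfl⟩ := Submodule.mem_sup.mp (ih' hy)
        rw [lie_add]
        exact add_mem (hUm _ d.hg' p hp) (mem_sup_right (lie_mem_U (Set.mem_insert _ _) hw))
      · exact bP (lie_mem_brk hx hy)
    refine (D.gen m).trans (iSup₂_le fun z hz => ?_)
    rintro _ ⟨y, hy, rfl⟩
    show ⁅z, y⁆ ∈ Y
    obtain ⟨p, hp, w, hw, rfl⟩ := Submodule.mem_sup.mp (ih' hy)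
    have hwm : w ∈ D.Lc m := by simpa using sub_mem hy (h.Um_le m hp)
    rw [lie_add]
    exact add_mem (hUm z hz p hp)
      (b2 (D.brk_of_π_mem hP2 (D.lie_mem _ _ hz _ hwm) (D.π_lie_W hw D.a0 z)))

/-- The congruence satisfied by partner pairs. -/
theorem IsChain.congruence (h : D.IsChain k g f A) (hb : ∀ v ∈ D.Lc 0, D.rk ⊥ v ≤ b)
    (hK : ∀ c : K, c = 0 ∨ c = 1) {i₀ : ℕ}
    (hQ : ∀ j, i₀ < j → j < k → D.act (g j) (f j (g j)) ∉ D.S (piv g j)) {v v' : L}
    (hI : D.Inv b g A k v v') {p : ℕ} (hp0 : i₀ ≤ p) (hp : p < k) {N : List ℕ}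
    (hN : ∀ j ∈ N, j < p) :
    ⁅g p, wd (K := K) (N.map g) v⁆ + ⁅g p, wd (K := K) (N.map g) v'⁆ ∈
      brk K (piv g p) (D.Lc N.length) ⊔ W K (piv g k) := by
  obtain ⟨u, w, hI', hu, hw⟩ := h.descend hb hK hQ hI (k - (p + 1)) (p + 1) (by omega) (by omega)
  obtain ⟨u', w', hs⟩ := h.step hb hK hp hI'
  set x := u' + w' + g p with hx
  have hpm : g p ∈ piv g k := ⟨p, hp, rfl⟩
  have hNm : ∀ y ∈ N.map g, y ∈ piv g k :=
    fun y hy => piv_mono g hp.le (map_mem_piv hN y hy)
  have hNm' : ∀ y ∈ N.map g, y ∈ piv g p := map_mem_piv hN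
  -- the kernel property applied to the reversed word
  have h1 : D.act x (D.π D.a0 (wd (K := K) (N.map g).reverse (g p))) ∈ D.S (piv g p) := by
    refine hs.Z _ ?_
    rw [D.act_π, piv_succ]
    exact D.π_lie_W (wd_mem_W (fun y hy => Or.inr (hNm' y (List.mem_reverse.mp hy)))
      (Set.mem_insert _ _)) _ _
  rw [D.act_π] at h1
  have h2 := D.π_lie_wd D.a0 (M := (N.map g).reverse)
    (fun y hy => hNm' y (List.mem_reverse.mp hy)) x (g p)
  rw [List.reverse_reverse] at h2
  have h3 := sub_mem h1 h2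
  rw [sub_sub_cancel] at h3
  have hc : ((-1 : K) ^ (N.map g).reverse.length) = 1 :=
    (hK _).resolve_left (pow_ne_zero _ (by simp))
  rw [hc, one_smul, D.π_lie_swap, neg_mem_iff] at h3
  have hxV : x ∈ D.Lc 0 := add_mem (add_mem hs.hu hs.hw) (h.mem p hp)
  have hdeg : ⁅g p, wd (K := K) (N.map g) x⁆ ∈ D.Lc (N.length + 1) := by
    refine D.lie_mem _ _ (h.mem p hp) _ ?_
    have := D.wd_mem_Lc (M := N.map g) (fun y hy => h.piv_subset le_rfl (hNm y hy)) hxV
    simpa using this
  have h4 := D.brk_of_π_mem (h.piv_subset hp.le) hdeg h3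
  have hd : x - (v + v') ∈ span K (piv g k) := by
    have hle : K ∙ g p ≤ span K (piv g k) :=
      (span_singleton_le_iff_mem _ _).mpr (subset_span hpm)
    have e : x - (v + v') = (u' - u) + (u - v) + ((w' - w) + (w - v')) + g p := by
      rw [hx]; abel
    rw [e]
    exact add_mem (add_mem (add_mem (hle hs.du) hu) (add_mem (hle hs.dw) hw)) (subset_span hpm)
  have h5 : ⁅g p, wd (K := K) (N.map g) (x - (v + v'))⁆ ∈ W K (piv g k) :=
    lie_mem_U hpm (wd_mem_U hNm hd)
  have e : ⁅g p, wd (K := K) (N.map g) v⁆ + ⁅g p, wd (K := K) (N.map g) v'⁆ =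
      ⁅g p, wd (K := K) (N.map g) x⁆ - ⁅g p, wd (K := K) (N.map g) (x - (v + v'))⁆ := by
    simp [map_sub, map_add, lie_add, lie_sub]
  rw [e]
  exact sub_mem (mem_sup_left h4) (mem_sup_right h5)

/-- Some word in the pivots below the first defective level detects the first element. -/
theorem IsChain.detect (h : D.IsChain k g f A) (hb : ∀ v ∈ D.Lc 0, D.rk ⊥ v ≤ b)
    (hkb : k + 1 = b) (d : D.Pair (piv g k) (A k)) (hC : D.Collapsed (piv g k) (A k))
    {i₀ : ℕ} (hi₀ : i₀ ≤ k)
    (hQ : ∀ j, i₀ < j → j < k → D.act (g j) (f j (g j)) ∉ D.S (piv g j)) :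
    ∃ a, ∃ N : List L, (∀ y ∈ N, y ∈ piv g i₀) ∧
      D.act d.g (D.π a (wd (K := K) N d.g)) ∉ D.S (piv g k) := by
  by_contra hcon
  push Not at hcon
  set S := D.S (piv g k) with hS
  have hK := d.hK
  -- a detecting word exists
  obtain ⟨a, M₀, hM₀, hu⟩ : ∃ a, ∃ M : List ℕ, (∀ j ∈ M, j < k) ∧
      D.act d.g (D.π a (wd (K := K) (M.map g) d.g)) ∉ S := by
    by_contra h'
    push Not at h'
    refine d.hu (D.Em_induction (C := fun φ => D.act d.g (φ d.g) ∈ S) (by simp)
      (fun f f' h h' => by simpa using add_mem h h')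
      (fun c f h => by simpa using Submodule.smul_mem _ c h) (fun a M hM => ?_) d.hf)
    obtain ⟨M', rfl, hlt⟩ := exists_map_of_piv M hM
    exact h' a M' hlt
  have low := h.low hb hkb d hM₀ hu
  have hW2 : ∀ x ∈ W K (insert d.g' (piv g k)), D.act d.g (D.π a x) ∈ S := fun x hx =>
    d.apart.mem D (mem_sup_right ⟨_, rfl⟩) (by rw [← S_insert, D.act_π]; exact D.π_lie_W hx a _)
  have hW : ∀ x ∈ W K (piv g k), D.act d.g (D.π a x) ∈ S := fun x hx =>
    hW2 x (W_mono (Set.subset_insert _ _) hx)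
  suffices claim : ∀ n, ∀ M : List ℕ, val k M = n → M.length = M₀.length → (∀ j ∈ M, j < k) →
      ∀ v ∈ D.Lc 0, D.act d.g (D.π a (wd (K := K) (M.map g) v)) ∈ S from
    hu (claim _ M₀ rfl rfl hM₀ _ d.hg)
  intro n
  induction n using Nat.strong_induction_on with
  | _ n ih =>
    intro M hn hlen hM v hv
    have hMm := map_mem_piv (g := g) hM
    rcases split_word i₀ M with hlow | ⟨Wl, p, N, rfl, hp0, hN⟩
    · have h0 := hcon a (M.map g).reverse
        (fun y hy => map_mem_piv hlow y (List.mem_reverse.mp hy))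
      have hMr : ∀ y ∈ (M.map g).reverse, y ∈ piv g k :=
        fun y hy => hMm y (List.mem_reverse.mp hy)
      have h1 := (sup_le le_rfl ((span_singleton_le_iff_mem _ _).mpr h0) : S ⊔ K ∙ _ ≤ S)
        (hC _ d.hg d.hgA _ (D.comp_wd_mem_Em hMr a) v hv)
      rw [LinearMap.comp_apply, D.act_π, D.π_lie_swap, neg_mem_iff] at h1
      have h2 := D.π_lie_wd a hMm d.g v
      rw [D.act_π]
      simpa using add_mem h2 (Submodule.smul_mem S ((-1 : K) ^ (M.map g).length) h1)
    · have hp : p < k := hM p (by simp)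
      have hWlm : ∀ y ∈ Wl.map g, y ∈ piv g k := map_mem_piv fun j hj => hM j (by simp [hj])
      suffices out : ∀ z ∈ D.Lc 0, z ∉ A k →
          D.act d.g (D.π a (wd (K := K) ((Wl ++ p :: N).map g) z)) ∈ S by
        by_cases hvA : v ∈ A k
        · have h2 : v + d.g ∉ A k := fun h' => d.hgA (by simpa using sub_mem h' hvA)
          simpa using sub_mem (out _ (add_mem hv d.hg) h2) (out _ d.hg d.hgA)
        · exact out v hv hvA
      intro z hz hzA
      rcases h.glue hb hkb d hC hz hzA with hIm | hI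
      · refine d.apart.mem D (mem_sup_right ⟨_, rfl⟩) ?_
        have h2 := D.π_lie_wd a hMm d.g z
        rw [D.act_π]
        have h3 : D.π a ⁅wd (K := K) ((Wl ++ p :: N).map g).reverse d.g, z⁆ ∈
            S ⊔ LinearMap.range (D.act d.g') := by
          rw [D.π_lie_swap, neg_mem_iff, ← D.act_π]
          exact hIm _
        simpa using add_mem (mem_sup_left (T := LinearMap.range (D.act d.g')) h2)
          (Submodule.smul_mem _ ((-1 : K) ^ ((Wl ++ p :: N).map g).length) h3)
      · have hc := h.congruence hb hK hQ hI hp0 hp (N := N) (fun j hj => (hN j hj).trans_le hp0)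
        set φ : L →ₗ[K] T := (D.act d.g).comp ((D.π a).comp (wd (K := K) (Wl.map g))) with hφ
        have e : ∀ x, D.act d.g (D.π a (wd (K := K) ((Wl ++ p :: N).map g) x)) =
            φ ⁅g p, wd (K := K) (N.map g) x⁆ := fun x => by
          simp [hφ, wd_append]
        have hB : brk K (piv g p) (D.Lc N.length) ≤ Submodule.comap φ S := by
          refine brk_le_iff.mpr fun x hx l hl => ?_
          obtain ⟨j, hj, rfl⟩ := hx
          have hjp : j < p := hj
          have hNlt : N.length ≤ M₀.length := by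
            rw [← hlen, List.length_append, List.length_cons]; omega
          obtain ⟨q, hq, w, hw, rfl⟩ := Submodule.mem_sup.mp (low N.length hNlt hl)
          rw [lie_add]
          refine add_mem ?_ ?_
          · have H : Um D g k N.length ≤
                Submodule.comap (φ.comp (LieAlgebra.ad K L (g j) : L →ₗ[K] L)) S := by
              refine span_le.mpr ?_
              rintro _ ⟨N', hN', hN'k, y, hy, rfl⟩
              show φ ⁅g j, wd (K := K) (N'.map g) y⁆ ∈ S
              have hval : val k (Wl ++ j :: N') < n := by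
                rw [← hn]
                exact val_append_lt Wl (by simp [hN']) (val_cons_lt hN' hN'k hjp)
              have := ih _ hval (Wl ++ j :: N') rfl (by rw [← hlen]; simp [hN']) (by
                intro i hi
                rcases List.mem_append.mp hi with h1 | h1
                · exact hM i (by simp [h1])
                · rcases List.mem_cons.mp h1 with rfl | h1
                  · omega
                  · exact hN'k i h1) y hy
              simpa [hφ, wd_append] using this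
            exact H hq
          · show φ ⁅g j, w⁆ ∈ S
            exact hW2 _ (wd_mem_W_of_mem (fun y hy => Or.inr (hWlm y hy))
              (lie_mem_U (Or.inr ⟨j, hjp.trans hp, rfl⟩) hw))
        have hW' : W K (piv g k) ≤ Submodule.comap φ S := fun x hx =>
          hW _ (wd_mem_W_of_mem hWlm hx)
        have h1 : φ (⁅g p, wd (K := K) (N.map g) z⁆ + ⁅g p, wd (K := K) (N.map g) d.g'⁆) ∈ S :=
          (sup_le hB hW') hc
        rw [map_add, ← e, ← e] at h1
        have h2 := hW2 _ (wd_mem_W (M := (Wl ++ p :: N).map g) (fun y hy => Or.inr (hMm y hy))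
          (Set.mem_insert d.g' (piv g k)))
        simpa using sub_mem h1 h2

end CfsgLib.PGroup.Breadth.BData
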