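import Cfsg.Agent.Lib.PGroup.Breadth.Detect

/-!
The bound on the span of the action, by choosing pivots greedily.
-/

set_option autoImplicit false

namespace CfsgLib.PGroup.Breadth.BData

open Submodule Finset

variable {K L T ι : Type*} [Field K] [LieRing L] [LieAlgebra K L] [AddCommGroup T] [Module K T]
  {D : BData K L T ι} {k b : ℕ} {g : ℕ → L} {f : ℕ → L →ₗ[K] T} {A : ℕ → Submodule K L}

theorem act_diag_mem_of_no_letters {P : Set L} (hP : ∀ y, y ∉ P) {φ : L →ₗ[K] T}
    (hφ : φ ∈ D.Em P) (x : L) (S : Submodule K T) : D.act x (φ x) ∈ S := by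
  refine D.Em_induction (C := fun φ => D.act x (φ x) ∈ S) (by simp)
    (fun f f' h h' => by simpa using add_mem h h')
    (fun c f h => by simpa using Submodule.smul_mem _ c h) (fun a M hM => ?_) hφ
  cases M with
  | nil => simp [D.act_π]
  | cons y M => exact absurd (hM y (by simp)) (hP y)

omit [LieRing L] in
theorem piv_zero (g : ℕ → L) : ∀ y, y ∉ piv g 0 := by
  rintro _ ⟨j, hj, -⟩
  exact Nat.not_lt_zero j hj

theorem exists_hyp {H : Submodule K L} {v₀ : L} (hv₀ : v₀ ∈ D.Lc 0) (hH : v₀ ∉ H) :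
    ∃ A, D.Hyp A ∧ H ≤ A := by
  obtain ⟨φ, hφ, hφH⟩ := Submodule.exists_dual_map_eq_bot_of_notMem hH inferInstance
  refine ⟨LinearMap.ker φ, ⟨⟨v₀, hv₀, hφ⟩, fun g _ hgA x _ => ⟨φ x / φ g, ?_⟩⟩,
    LinearMap.le_ker_iff_map.mpr hφH⟩
  have hg : φ g ≠ 0 := hgA
  simp [LinearMap.mem_ker, div_mul_cancel₀ _ hg]

theorem act_congr_span {P : Set L} {u v : L} (h : u - v ∈ span K P) (t : T) :
    D.act u t - D.act v t ∈ D.S P := by
  simpa using act_sub_mem_S (D := D) h t

variable [FiniteDimensional K T]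

/-- A full chain cannot end in a pair. -/
theorem IsChain.no_full_pair (h : D.IsChain k g f A) (hb : ∀ v ∈ D.Lc 0, D.rk ⊥ v ≤ b)
    (hkb : k + 1 = b) (d : D.Pair (piv g k) (A k)) (hC : D.Collapsed (piv g k) (A k))
    (hfull : ∑ j ∈ range k, (b - j) ≤ Module.finrank K ↥(D.S (piv g k))) : False := by
  classical
  rcases Nat.eq_zero_or_pos k with rfl | hk
  · exact d.hu (act_diag_mem_of_no_letters (piv_zero g) d.hf _ _)
  have hK := d.hK
  set pred := fun i => D.act (g i) (f i (g i)) ∈ D.S (piv g i) with hpred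
  set i₀ := Nat.findGreatest pred (k - 1) with hi₀def
  have hi₀ : i₀ < k := lt_of_le_of_lt (Nat.findGreatest_le (P := pred) (k - 1)) (by omega)
  have hQ0 : pred i₀ := Nat.findGreatest_spec (P := pred) (Nat.zero_le _)
    (act_diag_mem_of_no_letters (piv_zero g) (h.hf 0 hk) _ _)
  have hQ : ∀ j, i₀ < j → j < k → D.act (g j) (f j (g j)) ∉ D.S (piv g j) := fun j hj hjk =>
    Nat.findGreatest_is_greatest (P := pred) hj (by omega)
  obtain ⟨u, w, hI, hu, hw⟩ := h.descend hb hK hQ (h.inv_top hb hkb d hC) (k - (i₀ + 1)) (i₀ + 1)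
    (by omega) (by omega)
  obtain ⟨u', w', hs⟩ := h.step hb hK hi₀ hI
  obtain ⟨a1, N1, hN1, hd1⟩ := h.detect hb hkb d hC hi₀.le hQ
  obtain ⟨a2, N2, hN2, hd2⟩ := h.detect hb hkb (d.swap D) hC hi₀.le hQ
  change D.act d.g' (D.π a2 (wd (K := K) N2 d.g')) ∉ D.S (piv g k) at hd2
  set S := D.S (piv g i₀) with hS
  set Sk := D.S (piv g k) with hSk
  set c1 := D.π a1 (wd (K := K) N1 u') with hc1
  set c2 := D.π a2 (wd (K := K) N2 w') with hc2
  have hSSk : D.S (piv g (i₀ + 1)) ≤ Sk := D.S_mono (piv_mono g hi₀)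
  have hgp : K ∙ g i₀ ≤ span K (piv g k) :=
    (span_singleton_le_iff_mem _ _).mpr (subset_span ⟨i₀, hi₀, rfl⟩)
  have du : u' - d.g ∈ span K (piv g k) := by simpa using add_mem (hgp hs.du) hu
  have dw : w' - d.g' ∈ span K (piv g k) := by simpa using add_mem (hgp hs.dw) hw
  have hm : ∀ {N : List L}, (∀ y ∈ N, y ∈ piv g i₀) → ∀ y ∈ N, y ∈ piv g k :=
    fun hN y hy => piv_mono g hi₀.le (hN y hy)
  have key : ∀ (a : ι) {N : List L}, (∀ y ∈ N, y ∈ piv g i₀) → ∀ {x x₀ y y₀ : L},
      x - x₀ ∈ span K (piv g k) → y - y₀ ∈ span K (piv g k) →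
      D.act x (D.π a (wd (K := K) N y)) - D.act x₀ (D.π a (wd (K := K) N y₀)) ∈ Sk := by
    intro a N hN x x₀ y y₀ hx hy
    have h1 := act_congr_span (D := D) hx (D.π a (wd (K := K) N y))
    have h2 : D.act x₀ (D.π a (wd (K := K) N (y - y₀))) ∈ Sk := by
      rw [D.act_π]; exact D.π_lie_W (wd_mem_U (hm hN) hy) a _
    simpa using add_mem h1 h2
  have u1 : D.act u c1 ∉ Sk := fun h' => hd1 (by simpa [hc1] using sub_mem h' (key a1 hN1 hu du))
  have w2 : D.act w c2 ∉ Sk := fun h' => hd2 (by simpa [hc2] using sub_mem h' (key a2 hN2 hw dw))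
  have w1 : D.act w c1 ∈ Sk := by
    have h1 : D.act d.g' (D.π a1 (wd (K := K) N1 d.g)) ∈ Sk := by
      refine d.apart.mem D ?_ (mem_sup_right ⟨_, rfl⟩)
      rw [← S_insert, D.act_π]
      exact D.π_lie_W (wd_mem_W (fun y hy => Or.inr (hm hN1 y hy)) (Set.mem_insert _ _)) _ _
    simpa [hc1] using add_mem (key a1 hN1 hw du) h1
  -- the subspace killed by both
  set Kr := Submodule.comap (D.act (u + w)) (D.S (piv g (i₀ + 1))) with hKr
  have both : ∀ t ∈ Kr, D.act u t ∈ D.S (piv g (i₀ + 1)) ∧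
      D.act w t ∈ D.S (piv g (i₀ + 1)) := fun t ht => by
    have h1 : D.act u t + D.act w t ∈ D.S (piv g (i₀ + 1)) := by simpa [hKr] using ht
    have h2 := hI.ap t (-t) (by simpa using h1)
    exact ⟨h2, by simpa using sub_mem h1 h2⟩
  have lt1 : Kr < Kr ⊔ K ∙ c1 := lt_of_le_of_ne le_sup_left fun e => u1 (hSSk (both c1 (by
    rw [e]; exact mem_sup_right (mem_span_singleton_self _))).1)
  have lt2 : Kr ⊔ K ∙ c1 < Kr ⊔ K ∙ c1 ⊔ K ∙ c2 := lt_of_le_of_ne le_sup_left fun e => by
    have hmem : c2 ∈ Kr ⊔ K ∙ c1 := by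
      rw [e]; exact mem_sup_right (mem_span_singleton_self _)
    obtain ⟨x, hx, y, hy, exy⟩ := Submodule.mem_sup.mp hmem
    obtain ⟨c, rfl⟩ := mem_span_singleton.mp hy
    refine w2 ?_
    rw [← exy, map_add, map_smul]
    exact add_mem (hSSk (both x hx).2) (Submodule.smul_mem _ c w1)
  set Y := S ⊔ K ∙ D.act u' (f i₀ (g i₀)) with hY
  have hzw : D.act w' (f i₀ (g i₀)) ∈ Y := by
    have h1 : D.act (u' + w' + g i₀) (f i₀ (g i₀)) ∈ Y :=
      mem_sup_left (hs.Z _ (h.act_wit_mem hi₀ _))
    simpa using sub_mem (sub_mem h1 (mem_sup_left (T := K ∙ D.act u' (f i₀ (g i₀))) hQ0))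
      (mem_sup_right (S := S) (mem_span_singleton_self (D.act u' (f i₀ (g i₀)))))
  have lwY : ∀ t, D.act w' t ∈ D.S (piv g (i₀ + 1)) → D.act w' t ∈ Y := fun t ht =>
    (sup_le le_sup_left ((span_singleton_le_iff_mem _ _).mpr hzw) :
      S ⊔ K ∙ D.act w' (f i₀ (g i₀)) ≤ Y) (hs.lw t ht)
  have sh : ∀ {x x' : L}, x' - x ∈ K ∙ g i₀ → ∀ t,
      D.act x' t - D.act x t ∈ D.S (piv g (i₀ + 1)) := fun {x x'} hx t => by
    refine act_congr_span (((span_singleton_le_iff_mem _ _).mpr (subset_span ?_) :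
      K ∙ g i₀ ≤ span K (piv g (i₀ + 1))) hx) t
    exact ⟨i₀, Nat.lt_succ_self i₀, rfl⟩
  -- the image of the pivot on the large subspace
  have hJ : Kr ⊔ K ∙ c1 ⊔ K ∙ c2 ≤ Submodule.comap (D.act (g i₀)) Y := by
    refine sup_le (sup_le ?_ ?_) ?_
    · intro t ht
      obtain ⟨ht1, ht2⟩ := both t ht
      have h1 : D.act u' t ∈ D.S (piv g (i₀ + 1)) := by simpa using add_mem ht1 (sh hs.du t)
      have h2 : D.act w' t ∈ D.S (piv g (i₀ + 1)) := by simpa using add_mem ht2 (sh hs.dw t)
      have ha : D.act (u' + w' + g i₀) t ∈ D.S (piv g (i₀ + 1)) := by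
        simp only [map_add, LinearMap.add_apply]
        exact add_mem (add_mem h1 h2) (act_piv_mem g i₀ t)
      have e : D.act (g i₀) t = D.act (u' + w' + g i₀) t - D.act u' t - D.act w' t := by simp; abel
      show D.act (g i₀) t ∈ Y
      rw [e]
      exact sub_mem (sub_mem (mem_sup_left (hs.Z t ha)) (hs.lu t h1)) (lwY t h2)
    all_goals
      refine (span_singleton_le_iff_mem _ _).mpr ?_
    on_goal 1 =>
      have hh : ∀ t, D.act u' t ∈ D.S (piv g (i₀ + 1)) → D.act u' t ∈ Y := hs.lu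
      have h2 := D.π_lie_wd a1 hN1 (g i₀) u'
      rw [D.π_lie_swap a1 (wd (K := K) N1.reverse (g i₀)), smul_neg, sub_neg_eq_add] at h2
      have hgc : D.act (g i₀) c1 ∈ D.S (piv g (i₀ + 1)) := act_piv_mem g i₀ c1
      rw [← D.act_π, ← D.act_π, ← hc1, ← map_smul] at h2
      have h3 : D.act u' (((-1 : K) ^ N1.length) • D.π a1 (wd (K := K) N1.reverse (g i₀))) ∈
          D.S (piv g (i₀ + 1)) := by
        have := sub_mem ((D.S_mono (piv_mono g (Nat.le_succ i₀))) h2) hgc
        simpa using this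
      show D.act (g i₀) c1 ∈ Y
      simpa using sub_mem (mem_sup_left (T := K ∙ D.act u' (f i₀ (g i₀))) h2) (hh _ h3)
    have h2 := D.π_lie_wd a2 hN2 (g i₀) w'
    rw [D.π_lie_swap a2 (wd (K := K) N2.reverse (g i₀)), smul_neg, sub_neg_eq_add] at h2
    have hgc : D.act (g i₀) c2 ∈ D.S (piv g (i₀ + 1)) := act_piv_mem g i₀ c2
    rw [← D.act_π, ← D.act_π, ← hc2, ← map_smul] at h2
    have h3 : D.act w' (((-1 : K) ^ N2.length) • D.π a2 (wd (K := K) N2.reverse (g i₀))) ∈
        D.S (piv g (i₀ + 1)) := by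
      have := sub_mem ((D.S_mono (piv_mono g (Nat.le_succ i₀))) h2) hgc
      simpa using this
    show D.act (g i₀) c2 ∈ Y
    simpa using sub_mem (mem_sup_left (T := K ∙ D.act u' (f i₀ (g i₀))) h2) (lwY _ h3)
  -- counting
  have t1 := Submodule.finrank_lt_finrank_of_lt lt1
  have t2 := Submodule.finrank_lt_finrank_of_lt lt2
  have t3 := Submodule.finrank_mono hJ
  have t4 := (Submodule.comap (D.act (g i₀)) Y).finrank_quotient_add_finrank
  have t5 := Kr.finrank_quotient_add_finrank
  have t6 : Module.finrank K (T ⧸ Kr) + (i₀ + 1) ≤ b + 1 :=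
    h.rk_all hb (i₀ + 1) hi₀ _ (add_mem hI.hu hI.hw)
  have t7 := D.finrank_sup_range Y (g i₀)
  have t8 := D.finrank_sup_range S (g i₀)
  have t9 := h.rk_of_full hb hfull hi₀
  rw [← hS] at t9
  have t10 : Module.finrank K ↥(S ⊔ LinearMap.range (D.act (g i₀))) ≤
      Module.finrank K ↥(Y ⊔ LinearMap.range (D.act (g i₀))) :=
    Submodule.finrank_mono (sup_le_sup_right le_sup_left _)
  have t11 : Module.finrank K ↥Y ≤ Module.finrank K ↥S + 1 := by
    have e1 := Submodule.finrank_sup_add_finrank_inf_eq S (K ∙ D.act u' (f i₀ (g i₀)))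
    have e2 : Module.finrank K ↥(K ∙ D.act u' (f i₀ (g i₀))) ≤ 1 := by
      have := finrank_span_le_card (R := K) ({D.act u' (f i₀ (g i₀))} : Set T)
      simpa using this
    rw [hY]; omega
  have t12 : D.rk Y (g i₀) = Module.finrank K (T ⧸ Submodule.comap (D.act (g i₀)) Y) := rfl
  omega

/-- The bound on the span of the action. -/
theorem finrank_top_le (D : BData K L T ι) (hb : ∀ v ∈ D.Lc 0, D.rk ⊥ v ≤ b) :
    Module.finrank K ↥(D.S ↑(D.Lc 0)) ≤ b * (b + 1) / 2 := by
  classical
  by_cases hV : D.Lc 0 = ⊥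
  · have h0 : D.S ↑(D.Lc 0) = ⊥ := by
      rw [eq_bot_iff, S_le_iff]
      intro x hx t
      rw [hV, SetLike.mem_coe, Submodule.mem_bot] at hx
      simp [hx]
    rw [h0, finrank_bot]
    exact Nat.zero_le _
  suffices main : ∀ n k g f A, D.IsChain k g f A → b - k = n →
      Module.finrank K ↥(D.S ↑(D.Lc 0)) ≤ b * (b + 1) / 2 by
    obtain ⟨v, hv, hne⟩ := Submodule.exists_mem_ne_zero_of_ne_bot hV
    obtain ⟨A₀, hA₀, -⟩ := exists_hyp (D := D) (H := ⊥) hv (by simpa using hne)
    exact main b 0 (fun _ => 0) (fun _ => 0) (fun _ => A₀)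
      ⟨fun _ _ => hA₀, fun i hi => absurd hi (Nat.not_lt_zero i),
        fun i hi => absurd hi (Nat.not_lt_zero i), fun i hi => absurd hi (Nat.not_lt_zero i),
        fun i hi => absurd hi (Nat.not_lt_zero i), fun i hi => absurd hi (Nat.not_lt_zero i)⟩ rfl
  intro n
  induction n using Nat.strong_induction_on with
  | _ n ih =>
    intro k g f A h hn
    have hkb := h.le_b hb
    by_cases hC : D.Collapsed (piv g k) (A k)
    · have hr : ∀ z ∈ D.Lc 0, z ∉ A k → D.rk (D.S (piv g k)) z ≤ b - k := fun z hz hzA => by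
        have := h.rk_out hb k le_rfl z hz hzA; omega
      have hall : ∀ z ∈ D.Lc 0, D.rk (D.S (piv g k)) z ≤ b - k + 1 := fun z hz => by
        have := h.rk_all hb k le_rfl z hz; omega
      have h1 := h.finrank_le hb k le_rfl
      have h2 := two_mul_sum hkb
      rcases D.collapsed_bound (h.piv_subset le_rfl) (h.hyp k le_rfl) hC (b - k) hr hall with
        h3 | ⟨hr1, ⟨d⟩, h3⟩
      · have := Nat.div_mul_le_self ((b - k) * (b - k + 1)) 2
        rw [Nat.le_div_iff_mul_le two_pos]
        omega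
      · by_cases hfull : ∑ j ∈ range k, (b - j) ≤ Module.finrank K ↥(D.S (piv g k))
        · exact (h.no_full_pair hb (by omega) d hC hfull).elim
        · rw [hr1] at h2
          rw [Nat.le_div_iff_mul_le two_pos]
          omega
    · -- a further pivot
      rw [Collapsed] at hC
      push Not at hC
      obtain ⟨x, hx, hxA, φ, hφ, z₀, hz₀, hnot⟩ := hC
      set H := Submodule.comap (D.act.flip (φ x)) (D.S (piv g k) ⊔ K ∙ D.act x (φ x)) with hH
      obtain ⟨A', hA', hle⟩ := exists_hyp (D := D) (H := H) hz₀ hnot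
      have hxA' : x ∈ A' := hle (mem_sup_right (mem_span_singleton_self _))
      have eP : ∀ i, i ≤ k → piv (Function.update g k x) i = piv g i := fun i hi =>
        piv_congr fun j hj => Function.update_of_ne (by omega) _ _
      have hchain : D.IsChain (k + 1) (Function.update g k x) (Function.update f k φ)
          (Function.update A (k + 1) A') := by
        refine ⟨fun i hi => ?_, fun i hi => ?_, fun i hi => ?_, fun i hi => ?_, fun i hi => ?_,
          fun i hi => ?_⟩
        · rcases Nat.lt_or_ge k i with h' | h'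
          · rw [show i = k + 1 by omega, Function.update_self]; exact hA'
          · rw [Function.update_of_ne (by omega)]; exact h.hyp i h'
        all_goals rcases Nat.lt_succ_iff_lt_or_eq.mp hi with h' | rfl
        · rw [Function.update_of_ne (by omega)]; exact h.mem i h'
        · rwa [Function.update_self]
        · rw [Function.update_of_ne (by omega), Function.update_of_ne (by omega)]; exact h.out i h'
        · rwa [Function.update_self, Function.update_of_ne (by omega)]
        · rw [Function.update_of_ne (by omega), Function.update_of_ne (by omega)]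
          exact h.into i h'
        · rwa [Function.update_self, Function.update_self]
        · rw [Function.update_of_ne (by omega), eP i h'.le]; exact h.hf i h'
        · rwa [Function.update_self, eP i le_rfl]
        · rw [Function.update_of_ne (show i + 1 ≠ k + 1 by omega),
            Function.update_of_ne (show i ≠ k by omega), Function.update_of_ne (show i ≠ k by omega),
            eP i h'.le]
          exact h.sep i h'
        · rw [Function.update_self, Function.update_self, Function.update_self, eP i le_rfl]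
          exact fun z _ hzA hmem => hzA (hle hmem)
      have := hchain.le_b hb
      exact ih (b - (k + 1)) (by omega) (k + 1) _ _ _ hchain rfl

end CfsgLib.PGroup.Breadth.BData
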