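import Cfsg.Agent.Lib.PGroup.Breadth.Main
import Cfsg.Agent.Lib.Solvable.AssocLieRing
import Mathlib.Algebra.Module.ZMod
import Mathlib.Algebra.Field.ZMod
import Mathlib.GroupTheory.PGroup
import Mathlib.LinearAlgebra.Pi
import Mathlib.FieldTheory.Finiteness

/-!
From a finite `p`-group to graded data over the field with `p` elements.
-/

set_option autoImplicit false

namespace CfsgLib.PGroup.Breadth.Reduction

open CfsgLib.Solvable.AssocLieRing
open scoped commutatorElement

universe u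

variable (p : ℕ) (G : Type u) [Group G]

/-- Multiples of `p ^ a`. -/
noncomputable def rg (a : ℕ) : AddSubgroup (LieR G) :=
  (nsmulAddMonoidHom (p ^ a) : LieR G →+ LieR G).range

/-- The elements whose `p ^ a`-th multiple is a multiple of `p ^ (a + 1)`. -/
noncomputable def Ker (a : ℕ) : AddSubgroup (LieR G) :=
  (rg p G (a + 1)).comap (nsmulAddMonoidHom (p ^ a))

/-- The layer `a`. -/
abbrev Quo (a : ℕ) : Type u := LieR G ⧸ Ker p G a

variable {p G}

theorem mem_rg {a : ℕ} {x : LieR G} : x ∈ rg p G a ↔ ∃ r, p ^ a • r = x := Iff.rfl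

theorem mem_Ker {a : ℕ} {x : LieR G} : x ∈ Ker p G a ↔ ∃ r, p ^ (a + 1) • r = p ^ a • x :=
  Iff.rfl

variable (p) in
/-- The class in a layer. -/
noncomputable def mk (a : ℕ) : LieR G →+ Quo p G a := QuotientAddGroup.mk' (Ker p G a)

theorem mk_surj {a : ℕ} (x : Quo p G a) : ∃ y, mk p a y = x := QuotientAddGroup.mk'_surjective _ x

theorem mk_eq_zero {a : ℕ} {x : LieR G} : mk p a x = 0 ↔ x ∈ Ker p G a :=
  QuotientAddGroup.eq_zero_iff x

theorem p_nsmul_mem (a : ℕ) (x : LieR G) : p • x ∈ Ker p G a :=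
  mem_Ker.mpr ⟨x, by rw [smul_smul, ← pow_succ]⟩

noncomputable instance instModule (a : ℕ) : Module (ZMod p) (Quo p G a) :=
  AddCommGroup.zmodModule fun x => by
    obtain ⟨y, rfl⟩ := mk_surj x
    rw [← map_nsmul, mk_eq_zero]
    exact p_nsmul_mem a y

theorem bra_mem_Ker_right {a : ℕ} (x : LieR G) {y : LieR G} (hy : y ∈ Ker p G a) :
    bra x y ∈ Ker p G a := by
  obtain ⟨r, hr⟩ := mem_Ker.mp hy
  exact mem_Ker.mpr ⟨bra x r, by rw [← map_nsmul, hr, map_nsmul]⟩

theorem bra_mem_Ker_left {a : ℕ} {x : LieR G} (hx : x ∈ Ker p G 0) (y : LieR G) :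
    bra x y ∈ Ker p G a := by
  obtain ⟨r, hr⟩ := mem_Ker.mp hx
  rw [zero_add, pow_one, pow_zero, one_smul] at hr
  rw [← hr, map_nsmul]
  exact p_nsmul_mem a _

variable (p) in
/-- The bracket with a fixed element on a layer. -/
noncomputable def brAt (a : ℕ) (x : LieR G) : Quo p G a →+ Quo p G a :=
  QuotientAddGroup.map (Ker p G a) (Ker p G a) (bra x) fun _ hy => bra_mem_Ker_right x hy

theorem brAt_mk (a : ℕ) (x y : LieR G) : brAt p a x (mk p a y) = mk p a (bra x y) := rfl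

variable (p) in
/-- The bracket of the bottom layer on a layer. -/
noncomputable def br (a : ℕ) : Quo p G 0 →+ Quo p G a →+ Quo p G a :=
  QuotientAddGroup.lift (Ker p G 0)
    (AddMonoidHom.mk' (brAt p a) fun x x' => by
      refine AddMonoidHom.ext fun t => ?_
      obtain ⟨y, rfl⟩ := mk_surj t
      simp only [AddMonoidHom.add_apply, brAt_mk, ← map_add]
      rw [← AddMonoidHom.add_apply, ← map_add])
    fun x hx => by
      refine AddMonoidHom.ext fun t => ?_
      obtain ⟨y, rfl⟩ := mk_surj t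
      exact mk_eq_zero.mpr (bra_mem_Ker_left hx y)

theorem br_mk (a : ℕ) (x y : LieR G) : br p a (mk p 0 x) (mk p a y) = mk p a (bra x y) := rfl

noncomputable instance instBracket : Bracket (Quo p G 0) (Quo p G 0) := ⟨fun x y => br p 0 x y⟩

theorem quo_lie_mk (x y : LieR G) : ⁅mk p 0 x, mk p 0 y⁆ = mk p 0 ⁅x, y⁆ := rfl

theorem quo_lie_def (x y : Quo p G 0) : ⁅x, y⁆ = br p 0 x y := rfl

noncomputable instance instLieRingQuo : LieRing (Quo p G 0) where
  add_lie x y z := by simp only [quo_lie_def, map_add, AddMonoidHom.add_apply]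
  lie_add x y z := by simp only [quo_lie_def, map_add]
  lie_self x := by
    obtain ⟨x, rfl⟩ := mk_surj x
    rw [quo_lie_mk, lie_self, map_zero]
  leibniz_lie x y z := by
    obtain ⟨x, rfl⟩ := mk_surj x
    obtain ⟨y, rfl⟩ := mk_surj y
    obtain ⟨z, rfl⟩ := mk_surj z
    simp only [quo_lie_mk]
    rw [← map_add, ← leibniz_lie]

noncomputable instance instLieAlgebraQuo : LieAlgebra (ZMod p) (Quo p G 0) where
  lie_smul c x y := ZMod.map_smul (br p 0 x) c y

variable (p) in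
/-- The product of the first layers. -/
abbrev Tot (G : Type u) [Group G] (N : ℕ) : Type u := (a : Fin (N + 1)) → Quo p G (a : ℕ)

theorem Ker_zero_le (a : ℕ) : Ker p G 0 ≤ Ker p G a := fun x hx => by
  obtain ⟨r, hr⟩ := mem_Ker.mp hx
  rw [zero_add, pow_one, pow_zero, one_smul] at hr
  exact hr ▸ p_nsmul_mem a r

variable (p) in
/-- The map from the bottom layer to a layer. -/
noncomputable def down (a : ℕ) : Quo p G 0 →+ Quo p G a :=
  QuotientAddGroup.map (Ker p G 0) (Ker p G a) (AddMonoidHom.id _) fun _ hx => Ker_zero_le a hx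

theorem down_mk (a : ℕ) (x : LieR G) : down p a (mk p 0 x) = mk p a x := rfl

/-- The action on all layers. -/
noncomputable def actL (N : ℕ) :
    Quo p G 0 →ₗ[ZMod p] Tot p G N →ₗ[ZMod p] Tot p G N :=
  (AddMonoidHom.mk'
    (fun x => (AddMonoidHom.mk' (fun (t : Tot p G N) (a : Fin (N + 1)) => br p (a : ℕ) x (t a))
      (fun t t' => funext fun (a : Fin (N + 1)) => map_add (br p (a : ℕ) x) (t a) (t' a))).toZModLinearMap p)
    (fun x x' => LinearMap.ext fun t => funext fun (a : Fin (N + 1)) => by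
      show br p (a : ℕ) (x + x') (t a) = br p (a : ℕ) x (t a) + br p (a : ℕ) x' (t a)
      rw [map_add, AddMonoidHom.add_apply])).toZModLinearMap p

theorem actL_apply (N : ℕ) (x : Quo p G 0) (t : Tot p G N) (a : Fin (N + 1)) :
    actL N x t a = br p (a : ℕ) x (t a) := rfl

/-- The maps into the layers. -/
noncomputable def piL (N : ℕ) (a : Fin (N + 1)) : Quo p G 0 →ₗ[ZMod p] Tot p G N :=
  (LinearMap.single (ZMod p) (fun a : Fin (N + 1) => Quo p G (a : ℕ)) a).comp
    ((down p (a : ℕ)).toZModLinearMap p)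

/-- The component in one degree. -/
noncomputable def comp (n : ℕ) : LieR G →+ LieR G :=
  (DirectSum.of (fun m => Q G m) n).comp (DFinsupp.evalAddMonoidHom n)

theorem cls_apply_self (n : ℕ) (g : G) : (cls n g : LieR G) n = q n g :=
  DirectSum.of_eq_same n _

theorem cls_apply_ne {m n : ℕ} (h : n ≠ m) (g : G) : (cls m g : LieR G) n = 0 :=
  DirectSum.of_eq_of_ne m n _ h

theorem comp_apply (n : ℕ) (x : LieR G) : comp n x = DirectSum.of (fun m => Q G m) n (x n) := rfl

theorem comp_cls_self (n : ℕ) (g : G) : comp n (cls n g) = cls n g := by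
  rw [comp_apply, cls_apply_self]
  rfl

theorem comp_cls_ne {m n : ℕ} (h : n ≠ m) (g : G) : comp n (cls m g) = 0 := by
  rw [comp_apply, cls_apply_ne h, map_zero]

theorem exists_cls (n : ℕ) (x : LieR G) : ∃ g ∈ γ G n, comp n x = cls n g := by
  obtain ⟨g, hg, e⟩ := q_surj (x n)
  exact ⟨g, hg, by rw [comp_apply, ← e]; rfl⟩

variable (p) in
/-- The component in one degree, on a layer. -/
noncomputable def compQ (n a : ℕ) : Quo p G a →+ Quo p G a :=
  QuotientAddGroup.map (Ker p G a) (Ker p G a) (comp n) fun x hx => by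
    obtain ⟨r, hr⟩ := mem_Ker.mp hx
    exact mem_Ker.mpr ⟨comp n r, by rw [← map_nsmul, hr, map_nsmul]⟩

theorem compQ_mk (n a : ℕ) (x : LieR G) : compQ p n a (mk p a x) = mk p a (comp n x) := rfl

/-- The component in one degree, on all layers. -/
noncomputable def compT (N n : ℕ) : Tot p G N →ₗ[ZMod p] Tot p G N :=
  (AddMonoidHom.mk' (fun (t : Tot p G N) (a : Fin (N + 1)) => compQ p n (a : ℕ) (t a))
    (fun t t' => funext fun (a : Fin (N + 1)) => map_add (compQ p n (a : ℕ)) (t a) (t' a))).toZModLinearMap p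

/-- The degree `n` part of the bottom layer. -/
noncomputable def deg (n : ℕ) : Submodule (ZMod p) (Quo p G 0) :=
  LinearMap.range ((compQ p n 0).toZModLinearMap p)

theorem mem_deg {n : ℕ} {x : Quo p G 0} :
    x ∈ deg n ↔ ∃ g ∈ γ G n, mk p 0 (cls n g) = x := by
  constructor
  · rintro ⟨y, rfl⟩
    obtain ⟨y, rfl⟩ := mk_surj y
    obtain ⟨g, hg, e⟩ := exists_cls n y
    exact ⟨g, hg, by rw [← e]; rfl⟩
  · rintro ⟨g, _, rfl⟩
    exact ⟨mk p 0 (cls n g), by rw [AddMonoidHom.coe_toZModLinearMap, compQ_mk, comp_cls_self]⟩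

theorem comp_bra (n : ℕ) (a : G) (y : LieR G) :
    comp (n + 1) (bra (cls 0 a) y) = bra (cls 0 a) (comp n y) := by
  induction y using lie_induction with
  | h0 => simp
  | hadd u v hu hv => simp only [map_add, hu, hv]
  | hcls m g hg =>
    rw [← lie_def, lie_cls (show a ∈ γ G 0 from Subgroup.mem_top a) hg]
    rcases eq_or_ne n m with rfl | h
    · rw [show 0 + n + 1 = n + 1 by omega, comp_cls_self, comp_cls_self,
        ← lie_def, lie_cls (show a ∈ γ G 0 from Subgroup.mem_top a) hg,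
        show 0 + n + 1 = n + 1 by omega]
    · rw [comp_cls_ne (by omega), comp_cls_ne h, map_zero]

theorem gen_cls (n : ℕ) {g : G} (hg : g ∈ γ G (n + 1)) :
    g ∈ γ G (n + 1) ∧ mk p 0 (cls (n + 1) g) ∈
      ⨆ v ∈ (deg 0 : Submodule (ZMod p) (Quo p G 0)),
        Submodule.map (LieAlgebra.ad (ZMod p) (Quo p G 0) v) (deg n) := by
  have hle : γ G (n + 1) ≤ Subgroup.closure {z | ∃ a ∈ γ G n, ∃ b : G, ⁅a, b⁆ = z} := by
    rw [γ_succ, Subgroup.commutator_le]
    exact fun a ha b _ => Subgroup.subset_closure ⟨a, ha, b, rfl⟩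
  have hg' := hle hg
  clear hg hle
  induction hg' using Subgroup.closure_induction with
  | mem z hz =>
    obtain ⟨a, ha, b, rfl⟩ := hz
    have hb : b ∈ γ G 0 := Subgroup.mem_top b
    have h1 := comm_mem ha hb
    have h2 := lie_cls ha hb
    rw [Nat.add_zero] at h1 h2
    refine ⟨h1, ?_⟩
    rw [← h2, ← lie_skew, map_neg, ← quo_lie_mk]
    exact neg_mem (Submodule.mem_iSup_of_mem _ (Submodule.mem_iSup_of_mem
      (mem_deg.mpr ⟨b, hb, rfl⟩) (Submodule.mem_map.mpr ⟨_, mem_deg.mpr ⟨a, ha, rfl⟩, rfl⟩)))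
  | one => exact ⟨one_mem _, by rw [cls_one, map_zero]; exact zero_mem _⟩
  | mul a b _ _ h1 h2 =>
    exact ⟨mul_mem h1.1 h2.1, by rw [cls_mul h1.1 h2.1, map_add]; exact add_mem h1.2 h2.2⟩
  | inv a _ h1 => exact ⟨inv_mem h1.1, by rw [cls_inv h1.1, map_neg]; exact neg_mem h1.2⟩

theorem q_eq_zero_of_bot {N n : ℕ} (hN : γ G N = ⊥) (hn : N ≤ n) (x : Q G n) : x = 0 := by
  obtain ⟨g, hg, rfl⟩ := q_surj x
  have : g = 1 := Subgroup.mem_bot.mp (hN ▸ γ_anti hn hg)
  rw [this, q_one]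

variable (p) in
/-- The data attached to a group with `γ N = ⊥`. -/
noncomputable def data [Fact p.Prime] (N : ℕ) (hN : γ G N = ⊥) :
    BData (ZMod p) (Quo p G 0) (Tot p G N) (Fin (N + 1)) where
  Lc := deg
  act := actL N
  π := piL N
  a0 := 0
  pr := LinearMap.proj (R := ZMod p) (φ := fun a : Fin (N + 1) => Quo p G (a : ℕ)) 0
  pT := compT N
  act_π a z x := by
    obtain ⟨z, rfl⟩ := mk_surj z
    obtain ⟨x, rfl⟩ := mk_surj x
    rw [quo_lie_mk]
    funext c
    rw [actL_apply]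
    show br p (c : ℕ) _ (Pi.single (M := fun a : Fin (N + 1) => Quo p G (a : ℕ)) a (mk p (a : ℕ) x) c) = Pi.single (M := fun a : Fin (N + 1) =>
      Quo p G (a : ℕ)) a (mk p (a : ℕ) ⁅z, x⁆) c
    rcases eq_or_ne c a with rfl | h
    · rw [Pi.single_eq_same, Pi.single_eq_same, br_mk, lie_def]
    · rw [Pi.single_eq_of_ne h, Pi.single_eq_of_ne h, map_zero]
  pr_π0 x := by
    obtain ⟨x, rfl⟩ := mk_surj x
    exact Pi.single_eq_same (M := fun a : Fin (N + 1) => Quo p G (a : ℕ)) 0 _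
  pr_π a ha x := Pi.single_eq_of_ne (M := fun a : Fin (N + 1) => Quo p G (a : ℕ)) ha.symm _
  pr_act z t := rfl
  span_π := by
    rw [eq_top_iff]
    intro t _
    rw [← Finset.univ_sum_single t]
    refine sum_mem fun a _ => Submodule.mem_iSup_of_mem a ?_
    obtain ⟨y, hy⟩ := mk_surj (t a)
    exact ⟨mk p 0 y, by rw [← hy]; rfl⟩
  lie_mem n v hv x hx := by
    obtain ⟨a, ha, rfl⟩ := mem_deg.mp hv
    obtain ⟨g, hg, rfl⟩ := mem_deg.mp hx
    rw [quo_lie_mk, lie_cls ha hg]
    refine mem_deg.mpr ⟨⁅a, g⁆, ?_, ?_⟩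
    · exact γ_anti (by omega) (comm_mem ha hg)
    · rw [show 0 + n + 1 = n + 1 by omega]
  gen n := by
    intro x hx
    obtain ⟨g, hg, rfl⟩ := mem_deg.mp hx
    exact (gen_cls n hg).2
  iSup_Lc := by
    rw [eq_top_iff]
    rintro x -
    obtain ⟨x, rfl⟩ := mk_surj x
    induction x using lie_induction with
    | h0 => rw [map_zero]; exact zero_mem _
    | hadd u v hu hv => rw [map_add]; exact add_mem hu hv
    | hcls m g hg => exact Submodule.mem_iSup_of_mem m (mem_deg.mpr ⟨g, hg, rfl⟩)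
  nil := ⟨N, fun n hn => by
    rw [eq_bot_iff]
    intro x hx
    obtain ⟨g, hg, rfl⟩ := mem_deg.mp hx
    rw [Submodule.mem_bot, cls, q_eq_zero_of_bot hN hn (q n g), map_zero, map_zero]⟩
  pT_act n v hv t := by
    obtain ⟨g, hg, rfl⟩ := mem_deg.mp hv
    funext a
    show compQ p (n + 1) (a : ℕ) (br p (a : ℕ) (mk p 0 (cls 0 g)) (t a)) =
      br p (a : ℕ) (mk p 0 (cls 0 g)) (compQ p n (a : ℕ) (t a))
    obtain ⟨y, hy⟩ := mk_surj (t a)
    rw [← hy, br_mk, compQ_mk, compQ_mk, br_mk, comp_bra]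
  pT_π_self n a x hx := by
    obtain ⟨g, hg, rfl⟩ := mem_deg.mp hx
    funext c
    show compQ p n (c : ℕ) (Pi.single (M := fun a : Fin (N + 1) => Quo p G (a : ℕ)) a (mk p (a : ℕ) (cls n g)) c) =
      Pi.single (M := fun a : Fin (N + 1) => Quo p G (a : ℕ)) a (mk p (a : ℕ) (cls n g)) c
    rcases eq_or_ne c a with rfl | h
    · rw [Pi.single_eq_same, compQ_mk, comp_cls_self]
    · rw [Pi.single_eq_of_ne h, map_zero]
  pT_π_ne n m a hnm x hx := by
    obtain ⟨g, hg, rfl⟩ := mem_deg.mp hx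
    funext c
    show compQ p n (c : ℕ) (Pi.single (M := fun a : Fin (N + 1) => Quo p G (a : ℕ)) a (mk p (a : ℕ) (cls m g)) c) = 0
    rcases eq_or_ne c a with rfl | h
    · rw [Pi.single_eq_same, compQ_mk, comp_cls_ne hnm, map_zero]
    · rw [Pi.single_eq_of_ne h, map_zero]
  pr_pT_mem n t := ⟨t 0, rfl⟩

end CfsgLib.PGroup.Breadth.Reduction
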