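import Cfsg.Agent.Lib.PGroup.Breadth.Basic
import Cfsg.Agent.Lib.PGroup.Breadth.Collapse

/-!
The terminal step: when no pivot can be added, the span is controlled by one or two elements.
-/

set_option autoImplicit false

namespace CfsgLib.PGroup.Breadth.BData

open Submodule

variable {K L T ι : Type*} [Field K] [LieRing L] [LieAlgebra K L] [AddCommGroup T] [Module K T]
  (D : BData K L T ι)

/-- `A` meets the degree zero part in a hyperplane. -/
def Hyp (A : Submodule K L) : Prop :=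
  (∃ g ∈ D.Lc 0, g ∉ A) ∧ ∀ g ∈ D.Lc 0, g ∉ A → ∀ x ∈ D.Lc 0, ∃ c : K, x - c • g ∈ A

/-- Values at the diagonal. -/
def R (P : Set L) (g : L) : Submodule K T :=
  Submodule.map ((D.act g).comp (LinearMap.applyₗ (R := K) g)) (D.Em P)

/-- No further pivot is possible. -/
def Collapsed (P : Set L) (A : Submodule K L) : Prop :=
  ∀ g ∈ D.Lc 0, g ∉ A → ∀ f ∈ D.Em P, ∀ z ∈ D.Lc 0,
    D.act z (f g) ∈ D.S P ⊔ K ∙ D.act g (f g)

theorem mem_R {P : Set L} {f : L →ₗ[K] T} (hf : f ∈ D.Em P) (g : L) :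
    D.act g (f g) ∈ D.R P g :=
  ⟨f, hf, rfl⟩

theorem R_le_range (P : Set L) (g : L) : D.R P g ≤ LinearMap.range (D.act g) := by
  rintro _ ⟨f, _, rfl⟩
  exact ⟨f g, rfl⟩

theorem R_le_S_insert (P : Set L) (g : L) : D.R P g ≤ D.S (insert g P) :=
  (D.R_le_range P g).trans (by rw [S_insert]; exact le_sup_right)

theorem pr_R {P Q : Set L} {g : L} (hg : g ∈ Q) (hPQ : P ⊆ Q) {t : T} (ht : t ∈ D.R P g) :
    D.pr t ∈ W K Q := by
  obtain ⟨f, hf, rfl⟩ := ht
  show D.pr (D.act g (f g)) ∈ W K Q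
  rw [D.pr_act]
  exact lie_mem_U hg (U_mono hPQ le_rfl (D.pr_Em hf (Submodule.subset_span hg)))

theorem mkQ_mem_line_iff (S : Submodule K T) (x q : T) :
    S.mkQ x ∈ K ∙ S.mkQ q ↔ x ∈ S ⊔ K ∙ q := by
  rw [← Set.image_singleton, ← Submodule.map_span, ← Submodule.mem_comap,
    Submodule.comap_map_mkQ]

theorem collapsed_right {P : Set L} {A : Submodule K L} (hC : D.Collapsed P A) {g : L}
    (hg : g ∈ D.Lc 0) (hgA : g ∉ A) {f : L →ₗ[K] T} (hf : f ∈ D.Em P) {v : L}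
    (hv : v ∈ D.Lc 0) : D.act g (f v) ∈ D.S P ⊔ K ∙ D.act g (f g) := by
  obtain ⟨f', hf', H⟩ := D.Em_symm hf
  have h1 := hC g hg hgA f' hf' v hv
  have h2 : D.act g (f' g) ∈ D.S P ⊔ K ∙ D.act g (f g) := by
    have e : D.act g (f' g) = (D.act g (f g) + D.act g (f' g)) - D.act g (f g) := by abel
    rw [e]
    exact sub_mem (le_sup_left (b := K ∙ D.act g (f g)) (H g g))
      (le_sup_right (a := D.S P) (mem_span_singleton_self _))
  have h3 : D.act v (f' g) ∈ D.S P ⊔ K ∙ D.act g (f g) :=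
    (sup_le le_sup_left ((span_singleton_le_iff_mem _ _).mpr h2) :
      D.S P ⊔ K ∙ D.act g (f' g) ≤ _) h1
  have e : D.act g (f v) = (D.act g (f v) + D.act v (f' g)) - D.act v (f' g) := by abel
  rw [e]
  exact sub_mem (le_sup_left (b := K ∙ D.act g (f g)) (H g v)) h3

theorem collapsed_dom {P : Set L} {A : Submodule K L} (hA : D.Hyp A) (hC : D.Collapsed P A)
    {X : Submodule K T} (hX : D.S P ≤ X) (h : ∀ g ∈ D.Lc 0, g ∉ A → D.R P g ≤ X)
    {f : L →ₗ[K] T} (hf : f ∈ D.Em P) {z v : L} (hz : z ∈ D.Lc 0) (hv : v ∈ D.Lc 0) :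
    D.act z (f v) ∈ X := by
  have out : ∀ g ∈ D.Lc 0, g ∉ A → D.act z (f g) ∈ X := fun g hg hgA =>
    (sup_le hX ((span_singleton_le_iff_mem _ _).mpr (h g hg hgA (D.mem_R hf g))) :
      D.S P ⊔ K ∙ D.act g (f g) ≤ X) (hC g hg hgA f hf z hz)
  by_cases hvA : v ∈ A
  · obtain ⟨g, hg, hgA⟩ := hA.1
    have h2 : v + g ∉ A := fun h' => hgA (by simpa using sub_mem h' hvA)
    have := sub_mem (out (v + g) (add_mem hv hg) h2) (out g hg hgA)
    simpa using this
  · exact out v hv hvA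

/-- Brackets with `U P V` under a domination hypothesis. -/
theorem lie_UV {P Q : Set L} {Y : Submodule K L} {X : Submodule K T}
    (hdom : ∀ f ∈ D.Em P, ∀ z ∈ D.Lc 0, ∀ v ∈ D.Lc 0, D.act z (f v) ∈ D.S Q ⊔ X)
    (hQ : brk K Q ⊤ ≤ Y) (hX : ∀ t ∈ X, D.pr t ∈ Y) {z : L} (hz : z ∈ D.Lc 0) {x : L}
    (hx : x ∈ U K P (D.Lc 0)) : ⁅z, x⁆ ∈ Y := by
  have H : U K P (D.Lc 0) ≤ Submodule.comap (LieAlgebra.ad K L z) Y :=
    U_le_iff.mpr fun M hM v hv => by
      show ⁅z, wd (K := K) M v⁆ ∈ Y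
      have h := hdom _ (D.comp_wd_mem_Em hM D.a0) z hz v hv
      obtain ⟨s, hs, r, hr, e⟩ := Submodule.mem_sup.mp h
      have e2 := congrArg D.pr e
      rw [map_add, LinearMap.comp_apply, D.act_π, D.pr_π0] at e2
      rw [← e2]
      exact add_mem (hQ (D.pr_mem_brk hs)) (hX r hr)
  exact H hx

theorem brk_union (P Q : Set L) (X : Submodule K L) :
    brk K (P ∪ Q) X ≤ brk K P X ⊔ brk K Q X :=
  brk_le_iff.mpr fun _ hh _ hx => hh.elim
    (fun h => le_sup_left (b := brk K Q X) (lie_mem_brk h hx))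
    (fun h => le_sup_right (a := brk K P X) (lie_mem_brk h hx))

theorem π_lie_UV {P : Set L} {X : Submodule K T}
    (hdom : ∀ f ∈ D.Em P, ∀ z ∈ D.Lc 0, ∀ v ∈ D.Lc 0, D.act z (f v) ∈ X)
    (a : ι) {z : L} (hz : z ∈ D.Lc 0) {x : L} (hx : x ∈ U K P (D.Lc 0)) :
    D.act z (D.π a x) ∈ X := by
  have H : U K P (D.Lc 0) ≤ Submodule.comap ((D.act z).comp (D.π a)) X :=
    U_le_iff.mpr fun M hM v hv => hdom _ (D.comp_wd_mem_Em hM a) z hz v hv
  exact H hx

/-- One pivot set controls everything. -/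
theorem S_top_le {P Q : Set L} (hP : P ⊆ ↑(D.Lc 0)) (hQ : Q ⊆ ↑(D.Lc 0))
    (hdom : ∀ f ∈ D.Em P, ∀ z ∈ D.Lc 0, ∀ v ∈ D.Lc 0,
      D.act z (f v) ∈ D.S P ⊔ ⨆ q ∈ Q, D.R P q) :
    D.S ↑(D.Lc 0) ≤ D.S (P ∪ Q) := by
  set X := U K P (D.Lc 0) ⊔ W K (P ∪ Q) with hXdef
  have hW : W K (P ∪ Q) ≤ X := le_sup_right
  have hrR : ∀ t ∈ (⨆ q ∈ Q, D.R P q), D.pr t ∈ X := by
    have H : (⨆ q ∈ Q, D.R P q) ≤ Submodule.comap D.pr X :=
      iSup₂_le fun q hq t ht => hW (D.pr_R (Or.inr hq) Set.subset_union_left ht)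
    exact fun t ht => H ht
  have hUV : ∀ z ∈ D.Lc 0, ∀ x ∈ U K P (D.Lc 0), ⁅z, x⁆ ∈ X ⊔ brk K P ⊤ := fun z hz x hx =>
    D.lie_UV hdom le_sup_right (fun t ht => le_sup_left (b := brk K P ⊤) (hrR t ht)) hz hx
  have htop : X = ⊤ := by
    refine D.eq_top_of_closed hP hQ ((le_U P _).trans le_sup_left) ?_ ?_ ?_
    · intro h hh x hx
      obtain ⟨u, hu, w, hw, rfl⟩ := Submodule.mem_sup.mp hx
      rw [lie_add]
      exact Submodule.add_mem_sup (lie_mem_U hh hu) (lie_mem_U (Or.inl hh) hw)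
    · intro h hh x hx
      obtain ⟨u, hu, w, hw, rfl⟩ := Submodule.mem_sup.mp hx
      rw [lie_add]
      exact add_mem (hUV h (hQ hh) u hu)
        (le_sup_left (b := brk K P ⊤) (hW (lie_mem_U (Or.inr hh) hw)))
    · intro v hv x hx
      obtain ⟨u, hu, w, hw, rfl⟩ := Submodule.mem_sup.mp hx
      rw [lie_add]
      refine add_mem (le_sup_left (b := brk K Q ⊤) (hUV v hv u hu)) ?_
      have h := D.pr_mem_brk (D.π_lie_W hw D.a0 v)
      rw [D.pr_π0] at h
      exact (sup_le (le_sup_right.trans le_sup_left) le_sup_right :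
        brk K P ⊤ ⊔ brk K Q ⊤ ≤ X ⊔ brk K P ⊤ ⊔ brk K Q ⊤) (brk_union P Q ⊤ h)
  refine D.S_le_iff.mpr fun z hz t => D.π_mem_of_eq_top htop (D.act z) (fun a x hx => ?_) t
  obtain ⟨u, hu, w, hw, rfl⟩ := Submodule.mem_sup.mp hx
  rw [map_add, map_add]
  refine add_mem ?_ (by rw [D.act_π]; exact D.π_lie_W hw a z)
  refine (sup_le (D.S_mono Set.subset_union_left) (iSup₂_le fun q hq => ?_) :
    D.S P ⊔ (⨆ q ∈ Q, D.R P q) ≤ _) (D.π_lie_UV hdom a hz hu)
  exact (D.R_le_S_insert P q).trans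
    (D.S_mono (Set.insert_subset (Or.inr hq) Set.subset_union_left))

/-- The images of `g` and `g'` meet trivially modulo `S P`. -/
def Apart (S : Submodule K T) (g g' : L) : Prop :=
  ∀ t t', D.act g t - D.act g' t' ∈ S → D.act g t ∈ S

theorem Apart.symm {S : Submodule K T} {g g' : L} (h : D.Apart S g g') : D.Apart S g' g :=
  fun t t' ht => by
    have h2 : D.act g t' - D.act g' t ∈ S := by simpa using neg_mem ht
    simpa using sub_mem (h t' t h2) h2

theorem Apart.mem {S : Submodule K T} {g g' : L} (h : D.Apart S g g') {x : T}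
    (h1 : x ∈ S ⊔ LinearMap.range (D.act g)) (h2 : x ∈ S ⊔ LinearMap.range (D.act g')) :
    x ∈ S := by
  obtain ⟨s, hs, _, ⟨t, rfl⟩, rfl⟩ := Submodule.mem_sup.mp h1
  obtain ⟨s', hs', _, ⟨t', rfl⟩, e⟩ := Submodule.mem_sup.mp h2
  refine add_mem hs (h t t' ?_)
  have e' : D.act g t - D.act g' t' = s' - s := by
    rw [sub_eq_sub_iff_add_eq_add, add_comm, ← e]
  rw [e']
  exact sub_mem hs' hs

/-- In the case of two apart elements, their sum does the work of both. -/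
theorem S_top_le_of_apart {P : Set L} (hP : P ⊆ ↑(D.Lc 0)) {g g' : L} (hg : g ∈ D.Lc 0)
    (hg' : g' ∈ D.Lc 0)
    (hdom : ∀ f ∈ D.Em P, ∀ z ∈ D.Lc 0, ∀ v ∈ D.Lc 0,
      D.act z (f v) ∈ D.S P ⊔ (D.R P g ⊔ D.R P g'))
    (hap : D.Apart (D.S P) g g') :
    D.S ↑(D.Lc 0) ≤ D.S P ⊔ LinearMap.range (D.act (g + g')) := by
  set X := U K P (D.Lc 0) ⊔ W K (insert g P) ⊔ W K (insert g' P) with hXdef
  have hWg : W K (insert g P) ≤ X := le_sup_right.trans le_sup_left
  have hWg' : W K (insert g' P) ≤ X := le_sup_right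
  have hU : U K P (D.Lc 0) ≤ X := le_sup_left.trans le_sup_left
  have hrR : ∀ t ∈ D.R P g ⊔ D.R P g', D.pr t ∈ X := by
    intro t ht
    obtain ⟨r, hr, r', hr', rfl⟩ := Submodule.mem_sup.mp ht
    rw [map_add]
    exact add_mem (hWg (D.pr_R (Set.mem_insert _ _) (Set.subset_insert _ _) hr))
      (hWg' (D.pr_R (Set.mem_insert _ _) (Set.subset_insert _ _) hr'))
  have hUV : ∀ z ∈ D.Lc 0, ∀ x ∈ U K P (D.Lc 0), ⁅z, x⁆ ∈ X ⊔ brk K P ⊤ := fun z hz x hx =>
    D.lie_UV hdom le_sup_right (fun t ht => le_sup_left (b := brk K P ⊤) (hrR t ht)) hz hx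
  have cross : ∀ h h', D.Apart (D.S P) h h' → ∀ w ∈ W K (insert h' P), ∀ a,
      D.π a ⁅h, w⁆ ∈ D.S P := fun h h' hh w hw a => by
    refine hh.mem D ?_ (by rw [← S_insert]; exact D.π_lie_W hw a h)
    rw [← D.act_π]
    exact le_sup_right (a := D.S P) ⟨_, rfl⟩
  have crossL : ∀ h h', D.Apart (D.S P) h h' → ∀ w ∈ W K (insert h' P),
      ⁅h, w⁆ ∈ X ⊔ brk K P ⊤ := fun h h' hh w hw => by
    have := D.pr_mem_brk (cross h h' hh w hw D.a0)
    rw [D.pr_π0] at this
    exact le_sup_right (a := X) this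
  have hQ : ({g, g'} : Set L) ⊆ ↑(D.Lc 0) := Set.insert_subset hg (by simpa using hg')
  have htop : X = ⊤ := by
    refine D.eq_top_of_closed hP hQ ((le_U P _).trans hU) ?_ ?_ ?_
    · intro h hh x hx
      obtain ⟨y, hy, w', hw', rfl⟩ := Submodule.mem_sup.mp hx
      obtain ⟨u, hu, w, hw, rfl⟩ := Submodule.mem_sup.mp hy
      rw [lie_add, lie_add]
      exact add_mem (add_mem (hU (lie_mem_U hh hu)) (hWg (lie_mem_U (Or.inr hh) hw)))
        (hWg' (lie_mem_U (Or.inr hh) hw'))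
    · intro h hh x hx
      obtain ⟨y, hy, w', hw', rfl⟩ := Submodule.mem_sup.mp hx
      obtain ⟨u, hu, w, hw, rfl⟩ := Submodule.mem_sup.mp hy
      rw [lie_add, lie_add]
      refine add_mem (add_mem (hUV h (hQ hh) u hu) ?_) ?_
      · rcases hh with rfl | rfl
        · exact le_sup_left (b := brk K P ⊤) (hWg (lie_mem_U (Set.mem_insert _ _) hw))
        · exact crossL _ _ (hap.symm D) w hw
      · rcases hh with rfl | rfl
        · exact crossL _ _ hap w' hw'
        · exact le_sup_left (b := brk K P ⊤) (hWg' (lie_mem_U (Set.mem_insert _ _) hw'))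
    · intro v hv x hx
      obtain ⟨y, hy, w', hw', rfl⟩ := Submodule.mem_sup.mp hx
      obtain ⟨u, hu, w, hw, rfl⟩ := Submodule.mem_sup.mp hy
      have aux : ∀ h ∈ ({g, g'} : Set L), ∀ w ∈ W K (insert h P),
          ⁅v, w⁆ ∈ X ⊔ brk K P ⊤ ⊔ brk K ({g, g'} : Set L) ⊤ := fun h hh w hw => by
        have h1 := D.pr_mem_brk (D.π_lie_W hw D.a0 v)
        rw [D.pr_π0] at h1
        have h2 := brk_union P ({g, g'} : Set L) ⊤ (brk_mono (Q := P ∪ {g, g'})
          (Set.insert_subset (Or.inr hh) Set.subset_union_left) le_rfl h1)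
        exact (sup_le (le_sup_right.trans le_sup_left) le_sup_right :
          brk K P ⊤ ⊔ brk K ({g, g'} : Set L) ⊤ ≤ _) h2
      rw [lie_add, lie_add]
      exact add_mem (add_mem (le_sup_left (b := brk K ({g, g'} : Set L) ⊤) (hUV v hv u hu))
        (aux g (Set.mem_insert _ _) w hw)) (aux g' (Set.mem_insert_of_mem _ rfl) w' hw')
  set Y := D.S P ⊔ LinearMap.range (D.act (g + g')) with hY
  have half : ∀ h h', h + h' = g + g' → D.Apart (D.S P) h h' → h ∈ D.Lc 0 →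
      (∀ f ∈ D.Em P, ∀ z ∈ D.Lc 0, ∀ v ∈ D.Lc 0,
        D.act z (f v) ∈ D.S P ⊔ (D.R P h ⊔ D.R P h')) →
      X = U K P (D.Lc 0) ⊔ W K (insert h P) ⊔ W K (insert h' P) →
      ∀ t, D.act h t ∈ Y := by
    intro h h' e hh hV hdom' hX' t
    have one : ∀ t, D.act h' t ∈ D.S P → D.act h t ∈ Y := fun t ht => by
      have e2 : D.act h t = D.act (g + g') t - D.act h' t := by
        rw [← e]; simp
      rw [e2]
      exact sub_mem (le_sup_right (a := D.S P) ⟨t, rfl⟩)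
        (le_sup_left (b := LinearMap.range (D.act (g + g'))) ht)
    have hRY : ∀ r ∈ D.R P h, r ∈ Y := by
      rintro _ ⟨f, hf, rfl⟩
      refine one (f h) (hh.mem D ?_ (le_sup_right (a := D.S P) ⟨_, rfl⟩))
      rw [← S_insert]
      exact D.act_Em_mem_S (D.Em_mono (Set.subset_insert _ _) hf) (Set.mem_insert _ _) h'
    refine D.π_mem_of_eq_top (htop ▸ hX'.symm) (D.act h) (fun a x hx => ?_) t
    obtain ⟨y, hy, w', hw', rfl⟩ := Submodule.mem_sup.mp hx
    obtain ⟨u, hu, w, hw, rfl⟩ := Submodule.mem_sup.mp hy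
    rw [map_add, map_add, map_add, map_add]
    refine add_mem (add_mem ?_ ?_) ?_
    · have h1 := D.π_lie_UV hdom' a hV hu
      obtain ⟨s, hs, r, hr, e1⟩ := Submodule.mem_sup.mp h1
      obtain ⟨r1, hr1, r2, hr2, rfl⟩ := Submodule.mem_sup.mp hr
      have e3 : r2 = D.act h (D.π a u) - s - r1 := by rw [← e1]; abel
      have h2 : r2 ∈ D.S P := by
        refine hh.mem D ?_ (le_sup_right (a := D.S P) (D.R_le_range P h' hr2))
        rw [e3]
        exact sub_mem (sub_mem (le_sup_right (a := D.S P) ⟨_, rfl⟩)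
          (le_sup_left (b := LinearMap.range (D.act h)) hs))
          (le_sup_right (a := D.S P) (D.R_le_range P h hr1))
      rw [← e1]
      exact add_mem (le_sup_left (b := LinearMap.range (D.act (g + g'))) hs)
        (add_mem (hRY r1 hr1) (le_sup_left (b := LinearMap.range (D.act (g + g'))) h2))
    · refine one _ ?_
      rw [D.act_π]
      exact cross h' h (hh.symm D) w hw a
    · rw [D.act_π]
      exact le_sup_left (b := LinearMap.range (D.act (g + g'))) (cross h h' hh w' hw' a)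
  refine D.S_le_iff.mpr fun z hz t => ?_
  have h1 : D.act z t ∈ D.S (P ∪ {g, g'}) := by
    refine D.S_top_le hP hQ (fun f hf z hz v hv => ?_) (D.act_mem_S hz t)
    rw [iSup_pair]
    exact hdom f hf z hz v hv
  refine (D.S_le_iff.mpr fun h hh s => ?_ : D.S (P ∪ {g, g'}) ≤ Y) h1
  rcases hh with hh | hh
  · exact le_sup_left (b := LinearMap.range (D.act (g + g'))) (D.act_mem_S hh s)
  · rcases hh with rfl | rfl
    · exact half _ _ rfl hap hg hdom rfl s
    · exact half _ _ (add_comm _ _) (hap.symm D) hg'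
        (fun f hf z hz v hv => by rw [sup_comm (D.R P _)]; exact hdom f hf z hz v hv)
        (sup_right_comm _ _ _) s

variable [FiniteDimensional K T]

theorem mem_of_rk_eq_zero {S : Submodule K T} {z : L} (h : D.rk S z = 0) (t : T) :
    D.act z t ∈ S := by
  have h1 := D.finrank_sup_range S z
  rw [h, add_zero] at h1
  have h2 : S = S ⊔ LinearMap.range (D.act z) :=
    Submodule.eq_of_le_of_finrank_le le_sup_left h1.le
  rw [h2]
  exact le_sup_right (a := S) ⟨t, rfl⟩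

/-- The data left when two elements are needed and the remaining rank is one. -/
structure Pair (P : Set L) (A : Submodule K L) where
  g : L
  g' : L
  f : L →ₗ[K] T
  hK : ∀ c : K, c = 0 ∨ c = 1
  hg : g ∈ D.Lc 0
  hg' : g' ∈ D.Lc 0
  hgA : g ∉ A
  hgA' : g' ∉ A
  hf : f ∈ D.Em P
  hu : D.act g (f g) ∉ D.S P
  hu' : D.act g' (f g') ∉ D.S P ⊔ K ∙ D.act g (f g)
  dom : ∀ f ∈ D.Em P, ∀ z ∈ D.Lc 0, ∀ v ∈ D.Lc 0,
    D.act z (f v) ∈ D.S P ⊔ (D.R P g ⊔ D.R P g')
  apart : D.Apart (D.S P) g g'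

/-- The dichotomy at the end of the greedy process. -/
theorem collapsed_bound {P : Set L} {A : Submodule K L} (hP : P ⊆ ↑(D.Lc 0)) (hA : D.Hyp A)
    (hC : D.Collapsed P A) (r : ℕ) (hr : ∀ z ∈ D.Lc 0, z ∉ A → D.rk (D.S P) z ≤ r)
    (hall : ∀ z ∈ D.Lc 0, D.rk (D.S P) z ≤ r + 1) :
    Module.finrank K ↥(D.S ↑(D.Lc 0)) ≤ Module.finrank K ↥(D.S P) + r * (r + 1) / 2 ∨
      (r = 1 ∧ Nonempty (D.Pair P A) ∧
        Module.finrank K ↥(D.S ↑(D.Lc 0)) ≤ Module.finrank K ↥(D.S P) + 2) := by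
  classical
  set B : ↥(D.Em P) → ↥(D.Lc 0) → ↥(D.Lc 0) → T ⧸ D.S P :=
    fun f z v => (D.S P).mkQ (D.act z ((f : L →ₗ[K] T) v)) with hB
  have diag : ∀ g g' : ↥(D.Lc 0), diagSpan K B g ≤ diagSpan K B g' →
      D.R P g ≤ D.S P ⊔ D.R P g' := by
    intro g g' h
    rintro _ ⟨f, hf, rfl⟩
    have h1 : B ⟨f, hf⟩ g g ∈ diagSpan K B g' := h (subset_span ⟨⟨f, hf⟩, rfl⟩)
    have h2 : diagSpan K B g' ≤ (D.S P ⊔ D.R P g').map (D.S P).mkQ := by
      refine span_le.mpr ?_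
      rintro _ ⟨f', rfl⟩
      exact Submodule.mem_map_of_mem (le_sup_right (a := D.S P) (D.mem_R f'.2 _))
    have h3 := h2 h1
    rwa [← Submodule.mem_comap, Submodule.comap_map_mkQ, ← sup_assoc, sup_idem] at h3
  have diag2 : ∀ g g₁ g₂ : ↥(D.Lc 0), diagSpan K B g ≤ diagSpan K B g₁ ⊔ diagSpan K B g₂ →
      D.R P g ≤ D.S P ⊔ (D.R P g₁ ⊔ D.R P g₂) := by
    intro g g₁ g₂ h
    rintro _ ⟨f, hf, rfl⟩
    have h1 : B ⟨f, hf⟩ g g ∈ diagSpan K B g₁ ⊔ diagSpan K B g₂ :=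
      h (subset_span ⟨⟨f, hf⟩, rfl⟩)
    have h2 : diagSpan K B g₁ ⊔ diagSpan K B g₂ ≤
        (D.S P ⊔ (D.R P g₁ ⊔ D.R P g₂)).map (D.S P).mkQ := by
      refine sup_le (span_le.mpr ?_) (span_le.mpr ?_)
      · rintro _ ⟨f', rfl⟩
        exact Submodule.mem_map_of_mem
          (le_sup_right (a := D.S P) (le_sup_left (b := D.R P g₂) (D.mem_R f'.2 _)))
      · rintro _ ⟨f', rfl⟩
        exact Submodule.mem_map_of_mem
          (le_sup_right (a := D.S P) (le_sup_right (a := D.R P g₁) (D.mem_R f'.2 _)))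
    have h3 := h2 h1
    rwa [← Submodule.mem_comap, Submodule.comap_map_mkQ, ← sup_assoc, sup_idem] at h3
  obtain ⟨g₀, hg₀, hg₀A⟩ := hA.1
  rcases collapse B (fun f f' x y => by simp [hB]) (fun f x y y' => by simp [hB])
      (fun f x y (c : K) => by simp [hB]) (fun g => (g : L) ∉ A) ⟨⟨g₀, hg₀⟩, hg₀A⟩
      (fun g₁ g₂ o₁ o₂ c hc0 hc1 => by
        by_contra h
        push Not at h
        have h3 : ((1 : K) - c) • (g₂ : L) ∈ A := by
          have := sub_mem h.1 h.2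
          simpa [sub_smul] using this
        have h4 := A.smul_mem ((1 : K) - c)⁻¹ h3
        rw [smul_smul, inv_mul_cancel₀ (sub_ne_zero.mpr (Ne.symm hc1)), one_smul] at h4
        exact o₂ h4)
      (fun g₁ g₂ g₃ o₁ o₂ o₃ hK => by
        intro h
        obtain ⟨c, hc⟩ := hA.2 g₁ g₁.2 o₁ g₂ g₂.2
        rcases hK c with rfl | rfl
        · exact o₂ (by simpa using hc)
        · obtain ⟨d, hd⟩ := hA.2 g₁ g₁.2 o₁ g₃ g₃.2
          rcases hK d with rfl | rfl
          · exact o₃ (by simpa using hd)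
          · have h2 : ((g₁ : L) + g₂ + g₃) - (((g₂ : L) - (1 : K) • (g₁ : L)) + ((g₃ : L) - (1 : K) • (g₁ : L))) =
                (g₁ : L) + (g₁ : L) + (g₁ : L) := by simp; abel
            have h11 : (1 : K) + 1 = 0 := by
              rcases hK (1 + 1) with e | e
              · exact e
              · simp at e
            have h22 : (g₁ : L) + (g₁ : L) = 0 := by
              rw [← one_smul K (g₁ : L), ← add_smul, h11, zero_smul]
            have h4 := sub_mem (show (g₁ : L) + g₂ + g₃ ∈ A from h) (add_mem hc hd)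
            rw [h2, h22, zero_add] at h4
            exact o₁ h4)
      (fun g o f z => (mkQ_mem_line_iff _ _ _).mpr (hC g g.2 o f f.2 z z.2))
      (fun g o f v => (mkQ_mem_line_iff _ _ _).mpr (D.collapsed_right hC g.2 o f.2 v.2))
    with ⟨⟨g₁, hg₁⟩, o₁, h⟩ | ⟨hK, ⟨g₁, hg₁⟩, ⟨g₂, hg₂⟩, ⟨f₀, hf₀⟩, o₁, o₂, hu₁, hu₂, h⟩
  · left
    have hle := D.S_top_le hP (Q := {g₁}) (by simpa using hg₁) (fun f hf z hz v hv => by
      rw [iSup_singleton]
      exact D.collapsed_dom hA hC le_sup_left (fun g hg hgA => diag ⟨g, hg⟩ ⟨g₁, hg₁⟩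
        (h ⟨g, hg⟩ hgA)) hf hz hv)
    rw [Set.union_singleton, S_insert] at hle
    have h1 := Submodule.finrank_mono hle
    rw [D.finrank_sup_range] at h1
    have h2 := hr g₁ hg₁ o₁
    have h3 : r ≤ r * (r + 1) / 2 := by
      rw [Nat.le_div_iff_mul_le two_pos]
      rcases Nat.eq_zero_or_pos r with h | h
      · simp [h]
      · exact Nat.mul_le_mul_left r (by omega)
    omega
  · have dom : ∀ f ∈ D.Em P, ∀ z ∈ D.Lc 0, ∀ v ∈ D.Lc 0,
        D.act z (f v) ∈ D.S P ⊔ (D.R P g₁ ⊔ D.R P g₂) := fun f hf z hz v hv =>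
      D.collapsed_dom hA hC le_sup_left (fun g hg hgA => diag2 ⟨g, hg⟩ ⟨g₁, hg₁⟩ ⟨g₂, hg₂⟩
        (h ⟨g, hg⟩ hgA)) hf hz hv
    have hu : D.act g₁ (f₀ g₁) ∉ D.S P := fun h' =>
      hu₁ ((Submodule.Quotient.mk_eq_zero _).mpr h')
    have hr1 : 1 ≤ r := by
      by_contra h'
      have := hr g₁ hg₁ o₁
      exact hu (D.mem_of_rk_eq_zero (by omega) _)
    have hu' : D.act g₂ (f₀ g₂) ∉ D.S P ⊔ K ∙ D.act g₁ (f₀ g₁) := fun h' =>
      hu₂ ((mkQ_mem_line_iff _ _ _).mpr h')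
    by_cases hap : D.Apart (D.S P) g₁ g₂
    · have h1 := Submodule.finrank_mono (D.S_top_le_of_apart hP hg₁ hg₂ dom hap)
      rw [D.finrank_sup_range] at h1
      have h2 := hall (g₁ + g₂) (add_mem hg₁ hg₂)
      by_cases hr2 : r = 1
      · exact Or.inr ⟨hr2, ⟨⟨g₁, g₂, f₀, hK, hg₁, hg₂, o₁, o₂, hf₀, hu, hu', dom, hap⟩⟩,
          by omega⟩
      · have h3 : r + 1 ≤ r * (r + 1) / 2 := by
          rw [Nat.le_div_iff_mul_le two_pos, Nat.mul_comm r]
          exact Nat.mul_le_mul_left _ (by omega)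
        left; omega
    · left
      have hle := D.S_top_le hP (Q := {g₁, g₂}) (Set.insert_subset hg₁ (by simpa using hg₂))
        (fun f hf z hz v hv => by rw [iSup_pair]; exact dom f hf z hz v hv)
      have e : P ∪ {g₁, g₂} = insert g₁ P ∪ insert g₂ P := by
        ext x
        simp only [Set.mem_union, Set.mem_insert_iff, Set.mem_singleton_iff]
        tauto
      have hle2 : D.S ↑(D.Lc 0) ≤ D.S (insert g₁ P) ⊔ D.S (insert g₂ P) := by
        refine hle.trans (D.S_le_iff.mpr fun x hx t => ?_)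
        rw [e] at hx
        exact hx.elim (fun h => le_sup_left (b := D.S (insert g₂ P)) (D.act_mem_S h t))
          (fun h => le_sup_right (a := D.S (insert g₁ P)) (D.act_mem_S h t))
      have h1 := Submodule.finrank_mono hle2
      have h2 := Submodule.finrank_sup_add_finrank_inf_eq (D.S (insert g₁ P)) (D.S (insert g₂ P))
      have h3 : D.S P < D.S (insert g₁ P) ⊓ D.S (insert g₂ P) := by
        refine lt_of_le_of_ne (le_inf (D.S_mono (Set.subset_insert _ _))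
          (D.S_mono (Set.subset_insert _ _))) fun e' => hap fun t t' ht => ?_
        rw [e', Submodule.mem_inf, S_insert, S_insert]
        refine ⟨le_sup_right (a := D.S P) ⟨t, rfl⟩, ?_⟩
        have := add_mem (le_sup_left (b := LinearMap.range (D.act g₂)) ht)
          (le_sup_right (a := D.S P) (LinearMap.mem_range_self (D.act g₂) t'))
        simpa using this
      have h4 := Submodule.finrank_lt_finrank_of_lt h3
      rw [S_insert D P g₁, D.finrank_sup_range] at h2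
      rw [S_insert D P g₂, D.finrank_sup_range] at h2
      have h5 := hr g₁ hg₁ o₁
      have h6 := hr g₂ hg₂ o₂
      rw [S_insert D P g₁, S_insert D P g₂] at h1 h4
      have h7 : 2 * r - 1 ≤ r * (r + 1) / 2 := by
        rw [Nat.le_div_iff_mul_le two_pos]
        rcases r with _ | _ | _ | r
        · simp
        · simp
        · simp
        · ring_nf; omega
      omega

end CfsgLib.PGroup.Breadth.BData
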