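import Cfsg.Agent.Lib.PGroup.Breadth.Chain

/-!
The tower of partner pairs below a pair of rank one.
-/

set_option autoImplicit false

namespace CfsgLib.PGroup.Breadth.BData

open Submodule

variable {K L T ι : Type*} [Field K] [LieRing L] [LieAlgebra K L] [AddCommGroup T] [Module K T]
  (D : BData K L T ι)

theorem add_self_eq_zero_of_two {M : Type*} [AddCommGroup M] [Module K M]
    (hK : ∀ c : K, c = 0 ∨ c = 1) (x : M) : x + x = 0 := by
  have h : (1 : K) + 1 = 0 := (hK (1 + 1)).resolve_right (by simp)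
  rw [← one_smul K x, ← add_smul, h, zero_smul]

theorem neg_eq_of_two {M : Type*} [AddCommGroup M] [Module K M]
    (hK : ∀ c : K, c = 0 ∨ c = 1) (x : M) : -x = x :=
  neg_eq_of_add_eq_zero_right (add_self_eq_zero_of_two hK x)

/-- The sum of three elements outside a hyperplane is outside, over the field with two elements. -/
theorem Hyp.three {A : Submodule K L} (hA : D.Hyp A) (hK : ∀ c : K, c = 0 ∨ c = 1) {a b c : L}
    (ha : a ∈ D.Lc 0) (hb : b ∈ D.Lc 0) (hc : c ∈ D.Lc 0) (haA : a ∉ A) (hbA : b ∉ A)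
    (hcA : c ∉ A) : a + b + c ∉ A := by
  have two : ∀ x ∈ D.Lc 0, x ∉ A → a + x ∈ A := fun x hx hxA => by
    obtain ⟨d, hd⟩ := hA.2 a ha haA x hx
    rcases hK d with rfl | rfl
    · exact absurd (by simpa using hd) hxA
    · rwa [one_smul, sub_eq_add_neg, neg_eq_of_two hK, add_comm] at hd
  intro h
  exact hcA (by simpa using sub_mem h (two b hb hbA))

/-- Swapping the two elements of a pair. -/
def Pair.swap {P : Set L} {A : Submodule K L} (d : D.Pair P A) : D.Pair P A where
  g := d.g'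
  g' := d.g
  f := d.f
  hK := d.hK
  hg := d.hg'
  hg' := d.hg
  hgA := d.hgA'
  hgA' := d.hgA
  hf := d.hf
  hu := fun h => d.hu' (mem_sup_left h)
  hu' := fun h => d.hu (d.apart.mem D (le_sup_right (a := D.S P) (LinearMap.mem_range_self _ _))
    ((sup_le le_sup_left (le_sup_of_le_right
      ((span_singleton_le_iff_mem _ _).mpr (LinearMap.mem_range_self _ _))) : _ ≤ D.S P ⊔ LinearMap.range (D.act d.g')) h))
  dom := fun f hf z hz v hv => by rw [sup_comm (D.R P d.g')]; exact d.dom f hf z hz v hv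
  apart := d.apart.symm D

variable [FiniteDimensional K T]

theorem range_le_of_rk_le_one {S : Submodule K T} {z : L} (h : D.rk S z ≤ 1) {t : T}
    (ht : D.act z t ∉ S) : LinearMap.range (D.act z) ≤ S ⊔ K ∙ D.act z t := by
  have h1 := D.finrank_sup_range S z
  have hle : S ⊔ K ∙ D.act z t ≤ S ⊔ LinearMap.range (D.act z) :=
    sup_le_sup_left ((span_singleton_le_iff_mem _ _).mpr (LinearMap.mem_range_self _ t)) S
  have hlt : S < S ⊔ K ∙ D.act z t := lt_of_le_of_ne le_sup_left fun e => ht (by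
    rw [e]
    exact mem_sup_right (mem_span_singleton_self _))
  have h2 := Submodule.finrank_lt_finrank_of_lt hlt
  rw [Submodule.eq_of_le_of_finrank_le hle (by omega)]
  exact le_sup_right

theorem one_le_rk {S : Submodule K T} {z : L} {t : T} (ht : D.act z t ∉ S) : 1 ≤ D.rk S z := by
  by_contra h
  exact ht (D.mem_of_rk_eq_zero (by omega) t)

theorem mem_sup_of_rk {S S' : Submodule K T} (h : S ≤ S') {z : L}
    (hr : D.rk S z ≤ D.rk S' z + 1) {t₀ t : T} (h0 : D.act z t₀ ∈ S') (h0' : D.act z t₀ ∉ S)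
    (ht : D.act z t ∈ S') : D.act z t ∈ S ⊔ K ∙ D.act z t₀ := by
  by_contra h2
  have a1 := D.rk_lt (S := S) (S' := S ⊔ K ∙ D.act z t₀) le_sup_left
    (mem_sup_right (mem_span_singleton_self _)) h0'
  have a2 := D.rk_lt (S := S ⊔ K ∙ D.act z t₀) (S' := S')
    (sup_le h ((span_singleton_le_iff_mem _ _).mpr h0)) ht h2
  omega

/-- The invariant of a pair at level `i`. -/
structure Inv (b : ℕ) (g : ℕ → L) (A : ℕ → Submodule K L) (i : ℕ) (u w : L) : Prop where
  hu : u ∈ D.Lc 0
  hw : w ∈ D.Lc 0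
  huA : u ∉ A i
  hwA : w ∉ A i
  ru : b ≤ D.rk (D.S (piv g i)) u + i
  rw' : b ≤ D.rk (D.S (piv g i)) w + i
  rs : b + 1 ≤ D.rk (D.S (piv g i)) (u + w) + i
  ap : D.Apart (D.S (piv g i)) u w

variable {D} {k b : ℕ} {g : ℕ → L} {f : ℕ → L →ₗ[K] T} {A : ℕ → Submodule K L}

/-- Every element outside the top hyperplane is either of the type of `g'`, or a partner of it. -/
theorem IsChain.glue (h : D.IsChain k g f A) (hb : ∀ v ∈ D.Lc 0, D.rk ⊥ v ≤ b) (hkb : k + 1 = b)
    (d : D.Pair (piv g k) (A k)) (hC : D.Collapsed (piv g k) (A k)) {v : L} (hv : v ∈ D.Lc 0)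
    (hvA : v ∉ A k) :
    (∀ t, D.act v t ∈ D.S (piv g k) ⊔ LinearMap.range (D.act d.g')) ∨
      D.Inv b g A k v d.g' := by
  set S := D.S (piv g k) with hS
  have hK := d.hK
  have r1 : ∀ z ∈ D.Lc 0, z ∉ A k → D.rk S z ≤ 1 := fun z hz hzA => by
    have := h.rk_out hb k le_rfl z hz hzA
    rw [← hS] at this
    omega
  set e1 := d.f d.g with he1
  set e2 := d.f d.g' with he2
  set u1 := D.act d.g e1 with hu1
  set u2 := D.act d.g' e2 with hu2
  have le1 : S ⊔ K ∙ u1 ≤ S ⊔ LinearMap.range (D.act d.g) :=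
    sup_le_sup_left ((span_singleton_le_iff_mem _ _).mpr (LinearMap.mem_range_self _ _)) S
  have le2 : S ⊔ K ∙ u2 ≤ S ⊔ LinearMap.range (D.act d.g') :=
    sup_le_sup_left ((span_singleton_le_iff_mem _ _).mpr (LinearMap.mem_range_self _ _)) S
  have x21 : D.act d.g' e1 ∈ S := d.apart.mem D (le1 (hC _ d.hg d.hgA _ d.hf _ d.hg'))
    (mem_sup_right ⟨_, rfl⟩)
  have x12 : D.act d.g e2 ∈ S := d.apart.mem D (mem_sup_right ⟨_, rfl⟩)
    (le2 (hC _ d.hg' d.hgA' _ d.hf _ d.hg))
  have a1 := hC _ d.hg d.hgA _ d.hf v hv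
  have a2 := hC _ d.hg' d.hgA' _ d.hf v hv
  by_cases hve : D.act v e1 ∈ S
  · left
    set t := v + d.g + d.g' with ht
    have htA : t ∉ A k := (h.hyp k le_rfl).three D hK hv d.hg d.hg' hvA d.hgA d.hgA'
    have htV : t ∈ D.Lc 0 := add_mem (add_mem hv d.hg) d.hg'
    have te1 : D.act t e1 - u1 ∈ S := by
      have : D.act t e1 - u1 = D.act v e1 + D.act d.g' e1 := by simp [ht, hu1]; abel
      rw [this]
      exact add_mem hve x21
    have te1' : D.act t e1 ∉ S := fun h' => d.hu (by simpa using sub_mem h' te1)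
    have hvx : D.act v e2 ∉ S := fun h' => by
      refine d.hu' ?_
      have e : u2 = D.act t e2 - D.act v e2 - D.act d.g e2 := by simp [ht, hu2]; abel
      show u2 ∈ S ⊔ K ∙ u1
      rw [e]
      refine sub_mem (sub_mem ?_ (mem_sup_left h')) (mem_sup_left x12)
      have hle : S ⊔ K ∙ D.act t e1 ≤ S ⊔ K ∙ u1 := by
        refine sup_le le_sup_left ((span_singleton_le_iff_mem _ _).mpr ?_)
        have := add_mem (mem_sup_left (T := K ∙ u1) te1)
          (mem_sup_right (S := S) (mem_span_singleton_self u1))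
        simpa using this
      exact hle (D.range_le_of_rk_le_one (r1 t htV htA) te1' ⟨e2, rfl⟩)
    intro s
    exact (sup_le le_sup_left ((span_singleton_le_iff_mem _ _).mpr (le2 a2)) :
      S ⊔ K ∙ D.act v e2 ≤ _) (D.range_le_of_rk_le_one (r1 v hv hvA) hvx ⟨s, rfl⟩)
  · right
    have hImv : LinearMap.range (D.act v) ≤ S ⊔ K ∙ u1 :=
      (D.range_le_of_rk_le_one (r1 v hv hvA) hve).trans
        (sup_le le_sup_left ((span_singleton_le_iff_mem _ _).mpr a1))
    have hap : D.Apart S v d.g' := fun s s' hss => by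
      refine d.apart.mem D (le1 (hImv ⟨s, rfl⟩)) ?_
      have := add_mem (mem_sup_left (T := LinearMap.range (D.act d.g')) hss)
        (mem_sup_right (S := S) (LinearMap.mem_range_self (D.act d.g') s'))
      simpa using this
    have hu2' : u2 ∉ S := fun h' => d.hu' (mem_sup_left h')
    refine ⟨hv, d.hg', hvA, d.hgA', ?_, ?_, ?_, hap⟩
    · have := D.one_le_rk hve
      rw [← hS]; omega
    · have := D.one_le_rk hu2'
      rw [← hS]; omega
    · rw [← hS]
      by_contra hlt
      have hlt' : D.rk S (v + d.g') ≤ 1 := by omega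
      have w1 : D.act (v + d.g') e1 - D.act v e1 ∈ S := by simpa using x21
      have w1' : D.act (v + d.g') e1 ∉ S := fun h' => hve (by simpa using sub_mem h' w1)
      refine d.hu' ?_
      show u2 ∈ S ⊔ K ∙ u1
      have hle : S ⊔ K ∙ D.act (v + d.g') e1 ≤ S ⊔ K ∙ u1 := by
        refine sup_le le_sup_left ((span_singleton_le_iff_mem _ _).mpr ?_)
        simpa [add_comm] using add_mem (mem_sup_left (T := K ∙ u1) w1) a1
      have e : u2 = D.act (v + d.g') e2 - D.act v e2 := by simp [hu2]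
      rw [e]
      exact sub_mem (hle (D.range_le_of_rk_le_one hlt' w1' ⟨e2, rfl⟩)) (hImv ⟨e2, rfl⟩)

theorem IsChain.inv_top (h : D.IsChain k g f A) (hb : ∀ v ∈ D.Lc 0, D.rk ⊥ v ≤ b)
    (hkb : k + 1 = b) (d : D.Pair (piv g k) (A k)) (hC : D.Collapsed (piv g k) (A k)) :
    D.Inv b g A k d.g d.g' := by
  refine (h.glue hb hkb d hC d.hg d.hgA).resolve_left fun h' => d.hu ?_
  exact d.apart.mem D (mem_sup_right ⟨_, rfl⟩) (h' (d.f d.g))

/-- The facts available when descending one level from a pair. -/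
structure Step (g : ℕ → L) (f : ℕ → L →ₗ[K] T) (A : ℕ → Submodule K L) (b i : ℕ)
    (D : BData K L T ι) (u w u' w' : L) : Prop where
  hu : u' ∈ D.Lc 0
  hw : w' ∈ D.Lc 0
  du : u' - u ∈ K ∙ g i
  dw : w' - w ∈ K ∙ g i
  Z : ∀ t, D.act (u' + w' + g i) t ∈ D.S (piv g (i + 1)) →
    D.act (u' + w' + g i) t ∈ D.S (piv g i)
  zu : D.act u' (f i (g i)) ∉ D.S (piv g i)
  lu : ∀ t, D.act u' t ∈ D.S (piv g (i + 1)) →
    D.act u' t ∈ D.S (piv g i) ⊔ K ∙ D.act u' (f i (g i))
  lw : ∀ t, D.act w' t ∈ D.S (piv g (i + 1)) →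
    D.act w' t ∈ D.S (piv g i) ⊔ K ∙ D.act w' (f i (g i))
  next : D.act (g i) (f i (g i)) ∉ D.S (piv g i) → D.Inv b g A i u' w'

omit [FiniteDimensional K T] in
theorem act_sub_mem_S {P : Set L} {z : L} (hz : z ∈ span K P) (t : T) : D.act z t ∈ D.S P := by
  have H : span K P ≤ Submodule.comap (D.act.flip t) (D.S P) :=
    span_le.mpr fun x hx => D.act_mem_S hx t
  exact H hz

theorem IsChain.step (h : D.IsChain k g f A) (hb : ∀ v ∈ D.Lc 0, D.rk ⊥ v ≤ b)
    (hK : ∀ c : K, c = 0 ∨ c = 1) {i : ℕ} (hi : i < k) {u w : L}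
    (hI : D.Inv b g A (i + 1) u w) : ∃ u' w', Step g f A b i D u w u' w' := by
  obtain ⟨du, hdu, huV, huA⟩ := h.lift hi hI.hu
  obtain ⟨dw, hdw, hwV, hwA⟩ := h.lift hi hI.hw
  set S := D.S (piv g i) with hS
  have hSS : S ≤ (D.S (piv g (i + 1))) := D.S_mono (piv_mono g (Nat.le_succ i))
  set e := f i (g i) with he
  set a := u + du + (w + dw) + g i with ha
  have haA : a ∉ A i := (h.hyp i hi.le).three D hK huV hwV (h.mem i hi) huA hwA (h.out i hi)
  have haV : a ∈ D.Lc 0 := add_mem (add_mem huV hwV) (h.mem i hi)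
  have out : ∀ z ∈ D.Lc 0, z ∉ A i → D.rk S z + i ≤ b := h.rk_out hb i hi.le
  have hduw : du + (dw + g i) ∈ K ∙ g i :=
    add_mem hdu (add_mem hdw (mem_span_singleton_self _))
  have rka : D.rk (D.S (piv g (i + 1))) a = D.rk (D.S (piv g (i + 1))) (u + w) := by
    rw [ha, show u + du + (w + dw) + g i = u + w + (du + (dw + g i)) by abel,
      rk_shift g i _ hduw]
  have hrs := hI.rs
  have hru := hI.ru
  have hrw := hI.rw'
  have Z : ∀ t, D.act a t ∈ (D.S (piv g (i + 1))) → D.act a t ∈ S := fun t ht =>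
    D.comap_eq_of_rk hSS (by have := out a haV haA; omega) ht
  have zmem : ∀ z, D.act z e ∈ (D.S (piv g (i + 1))) := h.act_wit_mem hi
  have zu : D.act (u + du) e ∉ S := fun h' =>
    h.sep_mem hi hI.hu hI.huA hdu (mem_sup_left h')
  have zw : D.act (w + dw) e ∉ S := fun h' =>
    h.sep_mem hi hI.hw hI.hwA hdw (mem_sup_left h')
  have lu : ∀ t, D.act (u + du) t ∈ (D.S (piv g (i + 1))) → D.act (u + du) t ∈ S ⊔ K ∙ D.act (u + du) e :=
    fun t ht => D.mem_sup_of_rk hSS (by
      have := out _ huV huA; rw [rk_shift g i u hdu]; omega) (zmem _) zu ht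
  have lw : ∀ t, D.act (w + dw) t ∈ (D.S (piv g (i + 1))) → D.act (w + dw) t ∈ S ⊔ K ∙ D.act (w + dw) e :=
    fun t ht => D.mem_sup_of_rk hSS (by
      have := out _ hwV hwA; rw [rk_shift g i w hdw]; omega) (zmem _) zw ht
  refine ⟨u + du, w + dw, huV, hwV, by simpa using hdu, by simpa using hdw, Z, zu, lu, lw,
    fun hQ => ⟨huV, hwV, huA, hwA, ?_, ?_, ?_, ?_⟩⟩
  · have h1 := D.rk_lt hSS (zmem _) zu
    rw [rk_shift g i u hdu] at h1
    rw [← hS]; omega
  · have h1 := D.rk_lt hSS (zmem _) zw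
    rw [rk_shift g i w hdw] at h1
    rw [← hS]; omega
  · have hne : D.act (u + du + (w + dw)) e ∉ S := fun h' => hQ (by
      have := sub_mem (Z e (zmem a)) h'
      simpa [ha] using this)
    have h1 := D.rk_lt hSS (zmem _) hne
    rw [show u + du + (w + dw) = u + w + (du + dw) by abel, rk_shift g i _ (add_mem hdu hdw)] at h1
    rw [← hS, show u + du + (w + dw) = u + w + (du + dw) by abel]
    omega
  · intro t t' htt
    rw [← hS] at htt ⊢
    obtain ⟨cu, rfl⟩ := mem_span_singleton.mp hdu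
    obtain ⟨cw, rfl⟩ := mem_span_singleton.mp hdw
    have pu : D.act (u + cu • g i) t - D.act u t ∈ (D.S (piv g (i + 1))) := by
      simpa using Submodule.smul_mem _ cu (act_piv_mem (D := D) g i t)
    have pw : D.act (w + cw • g i) t' - D.act w t' ∈ (D.S (piv g (i + 1))) := by
      simpa using Submodule.smul_mem _ cw (act_piv_mem (D := D) g i t')
    have hd : D.act u t - D.act w t' ∈ (D.S (piv g (i + 1))) := by
      have := add_mem (sub_mem (hSS htt) pu) pw
      convert this using 1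
      abel
    have h1 : D.act (u + cu • g i) t ∈ (D.S (piv g (i + 1))) := by
      simpa using add_mem (hI.ap t t' hd) pu
    have h2 : D.act (w + cw • g i) t' ∈ (D.S (piv g (i + 1))) := by
      simpa using sub_mem h1 (hSS htt)
    obtain ⟨s1, hs1, y1, hy1, e1⟩ := Submodule.mem_sup.mp (lu t h1)
    obtain ⟨s2, hs2, y2, hy2, e2⟩ := Submodule.mem_sup.mp (lw t' h2)
    obtain ⟨c1, rfl⟩ := mem_span_singleton.mp hy1
    obtain ⟨c2, rfl⟩ := mem_span_singleton.mp hy2
    rw [← e1]
    rcases hK c1 with rfl | rfl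
    · simpa using hs1
    exfalso
    rw [← e1, ← e2, one_smul] at htt
    rcases hK c2 with rfl | rfl
    · exact zu (by
        have := sub_mem (add_mem htt (by simpa using hs2 : s2 + (0 : K) • D.act (w + cw • g i) e ∈ S)) hs1
        simpa using this)
    · refine hQ ?_
      rw [one_smul] at htt
      have hsum : D.act (u + cu • g i) e + D.act (w + cw • g i) e ∈ S := by
        have := sub_mem (add_mem htt hs2) hs1
        have hn : D.act (u + cu • g i) e + D.act (w + cw • g i) e =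
            D.act (u + cu • g i) e - D.act (w + cw • g i) e := by
          rw [sub_eq_add_neg, neg_eq_of_two hK]
        rw [hn]
        convert this using 1
        abel
      have := sub_mem (Z e (zmem a)) hsum
      simpa [ha] using this

/-- Pairs descend to every level above the first defective one. -/
theorem IsChain.descend (h : D.IsChain k g f A) (hb : ∀ v ∈ D.Lc 0, D.rk ⊥ v ≤ b)
    (hK : ∀ c : K, c = 0 ∨ c = 1) {i₀ : ℕ}
    (hQ : ∀ j, i₀ < j → j < k → D.act (g j) (f j (g j)) ∉ D.S (piv g j)) {v v' : L}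
    (hI : D.Inv b g A k v v') :
    ∀ n p, p + n = k → i₀ < p → ∃ u w, D.Inv b g A p u w ∧
      u - v ∈ span K (piv g k) ∧ w - v' ∈ span K (piv g k) := by
  intro n
  induction n with
  | zero =>
    intro p hp _
    rw [show p = k by omega]
    exact ⟨v, v', hI, by simp, by simp⟩
  | succ n ih =>
    intro p hp hp0
    obtain ⟨u, w, hI', hu, hw⟩ := ih (p + 1) (by omega) (by omega)
    obtain ⟨u', w', hs⟩ := h.step hb hK (show p < k by omega) hI'
    have hle : K ∙ g p ≤ span K (piv g k) :=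
      (span_singleton_le_iff_mem _ _).mpr (subset_span ⟨p, show p < k by omega, rfl⟩)
    refine ⟨u', w', hs.next (hQ p hp0 (by omega)), ?_, ?_⟩
    · simpa using add_mem (hle hs.du) hu
    · simpa using add_mem (hle hs.dw) hw

end CfsgLib.PGroup.Breadth.BData
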